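import Cfsg.Agent.H792.Sp.UThreeFive
import Cfsg.Agent.S1633
import Cfsg.Agent.S0400
import Cfsg.Agent.S0402
import Cfsg.Agent.S0403
import Cfsg.Agent.S0404
import Cfsg.Agent.S0405
import Cfsg.Agent.S1575
import Cfsg.Agent.S1585
import Cfsg.Prelude.Def_Spor_Conway

/-!
# Rows `HS`, `McL`, `Co₂`, `Co₃`, `p = 5` (helper792)

All of them contain `PSU₃(5)` with index prime to `5`.
-/

set_option autoImplicit false

namespace Cfsg.Agent.H792.SpU35

open Subgroup Cfsg Cfsg.Agent.H749 Cfsg.Agent.H792.SpCube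
open Cfsg.Agent.S1585 (smul_add' smul_neg' sqNorm_smul' sqNorm_add' sqNorm_neg' dotInt_smul' dotInt_neg_add dotInt_comm')

universe u

/-- the triple of vectors with stabiliser `PSU₃(5)` -/
structure Tri (v w x : leechLattice) : Prop where
  hv : sqNorm (v : GolayPt → ℤ) = 48
  hw : sqNorm (w : GolayPt → ℤ) = 48
  hx : sqNorm (x : GolayPt → ℤ) = 32
  hvw : dotInt (v : GolayPt → ℤ) (w : GolayPt → ℤ) = -32
  hvx : dotInt (v : GolayPt → ℤ) (x : GolayPt → ℤ) = 16
  hwx : dotInt (w : GolayPt → ℤ) (x : GolayPt → ℤ) = -24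

theorem Tri.exists_hom {v w x : leechLattice} (T : Tri v w x) {F : Type} [Field F] [Fintype F]
    (hF : Fintype.card F = 25) : Nonempty (PSU 3 F 5 ≃* ↥(MulAction.stabilizer Co0 v ⊓ MulAction.stabilizer Co0 w ⊓
      MulAction.stabilizer Co0 x)) := by
  obtain ⟨e⟩ := (S1633.result v w T.hv T.hw T.hvw F hF).2.2.2 x ⟨T.hx, T.hvx, T.hwx⟩
  exact ⟨e.symm⟩

theorem exists_tri {v w : leechLattice} (hv : sqNorm (v : GolayPt → ℤ) = 48) (hw : sqNorm (w : GolayPt → ℤ) = 48)
    (hvw : dotInt (v : GolayPt → ℤ) (w : GolayPt → ℤ) = -32) : ∃ x, Tri v w x := by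
  obtain ⟨F, _, _, hF⟩ := exists_field
  have h := (S1633.result v w hv hw hvw F hF).1
  have h1 := Set.nonempty_of_ncard_ne_zero (by rw [h]; norm_num)
  obtain ⟨x, hx⟩ := h1
  exact ⟨x, hv, hw, hx.1, hvw, hx.2.1, hx.2.2⟩

theorem Tri.smul {v w x : leechLattice} (T : Tri v w x) (g : Co0) : Tri (g • v) (g • w) (g • x) where
  hv := by rw [sqNorm_smul', T.hv]
  hw := by rw [sqNorm_smul', T.hw]
  hx := by rw [sqNorm_smul', T.hx]
  hvw := by rw [dotInt_smul', T.hvw]
  hvx := by rw [dotInt_smul', T.hvx]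
  hwx := by rw [dotInt_smul', T.hwx]

/-- the row for a subgroup of the automorphism group of the lattice -/
theorem Tri.row {v w x : leechLattice} (T : Tri v w x) [hp : Fact (Nat.Prime 5)] (K : Subgroup (Equiv.Perm leechLattice))
    [Finite K] (h4 : ¬ 5 ^ 4 ∣ Nat.card K) (hK : ∀ g : Co0, g • v = v → g • w = w → g • x = x → (g : Equiv.Perm leechLattice) ∈ K) :
    FullP 5 K ∨ H794.NFus 5 K := by
  obtain ⟨F, _, _, hF⟩ := exists_field
  obtain ⟨e⟩ := T.exists_hom hF
  let W := MulAction.stabilizer Co0 v ⊓ MulAction.stabilizer Co0 w ⊓ MulAction.stabilizer Co0 x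
  let f : W →* K := (Co0.subtype.comp W.subtype).codRestrict K fun g => hK g.1 g.2.1.1 g.2.1.2 g.2.2
  have hf : Function.Injective f := by
    intro a b h
    have h1 := congrArg Subtype.val h
    exact Subtype.ext (Subtype.ext h1)
  refine full_or_nfus hF (f.comp e.toMonoidHom) ?_ h4
  rw [MonoidHom.coe_comp]
  exact hf.comp e.injective

theorem sq_V : sqNorm (Spor.leechV : GolayPt → ℤ) = 48 := by decide +kernel
theorem sq_U : sqNorm (Spor.leechU : GolayPt → ℤ) = 32 := by decide +kernel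
theorem sq_U' : sqNorm (Spor.leechU' : GolayPt → ℤ) = 32 := by decide +kernel
theorem dot_VU : dotInt (Spor.leechV : GolayPt → ℤ) (Spor.leechU : GolayPt → ℤ) = -24 := by decide +kernel
theorem dot_VU' : dotInt (Spor.leechV : GolayPt → ℤ) (Spor.leechU' : GolayPt → ℤ) = -16 := by decide +kernel

theorem fix_neg_add {g : Co0} {a b : leechLattice} (ha : g • a = a) (hb : g • b = b) : g • (-(a + b)) = -(a + b) := by
  rw [smul_neg', smul_add', ha, hb]

/-- `v`, `-(v+u')` -/
theorem hs_pair : sqNorm ((-(Spor.leechV + Spor.leechU') : leechLattice) : GolayPt → ℤ) = 48 ∧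
    dotInt (Spor.leechV : GolayPt → ℤ) ((-(Spor.leechV + Spor.leechU') : leechLattice) : GolayPt → ℤ) = -32 := by
  rw [AddSubgroup.coe_neg, AddSubgroup.coe_add, sqNorm_neg', sqNorm_add', dotInt_neg_add, sq_V, sq_U', dot_VU']
  norm_num

theorem mem_HS {g : Co0} (hV : g • Spor.leechV = Spor.leechV) (h : g • (-(Spor.leechV + Spor.leechU')) =
    -(Spor.leechV + Spor.leechU')) : (g : Equiv.Perm leechLattice) ∈ Spor.HS := by
  have h2 : g • Spor.leechU' = Spor.leechU' := by
    rw [smul_neg', smul_add', hV] at h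
    exact add_left_cancel (neg_injective h)
  exact ⟨⟨g.2, hV⟩, h2⟩

theorem card_eq_of (K : Subgroup (Equiv.Perm leechLattice)) (hK : K ≤ Co0) (W : Subgroup Co0)
    (h : ∀ g : Co0, (g : Equiv.Perm leechLattice) ∈ K ↔ g ∈ W) : Nat.card K = Nat.card W := by
  have h1 : K.subgroupOf Co0 = W := by
    ext g
    rw [mem_subgroupOf]
    exact h g
  rw [← h1]
  exact (Nat.card_congr (Subgroup.subgroupOfEquivOfLe hK).toEquiv).symm

theorem card_HS : Nat.card Spor.HS = 44352000 := by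
  rw [card_eq_of Spor.HS (inf_le_left.trans inf_le_left) (MulAction.stabilizer Co0 Spor.leechV ⊓
    MulAction.stabilizer Co0 (-(Spor.leechV + Spor.leechU'))) fun g => ?_]
  · exact (S0405.result _ _ sq_V hs_pair.1 hs_pair.2).2
  · constructor
    · rintro ⟨⟨h1, h2⟩, h3⟩
      exact ⟨h2, fix_neg_add h2 h3⟩
    · rintro ⟨h1, h2⟩
      exact mem_HS h1 h2

theorem card_Co3 : Nat.card Spor.Co3 = 495766656000 := by
  rw [card_eq_of Spor.Co3 inf_le_left (MulAction.stabilizer Co0 Spor.leechV) fun g => ?_]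
  · exact (S0403.result _ sq_V).2
  · constructor
    · rintro ⟨h1, h2⟩
      exact h2
    · intro h
      exact ⟨g.2, h⟩

theorem card_Co2 : Nat.card Spor.Co2 = 42305421312000 := by
  rw [card_eq_of Spor.Co2 inf_le_left (MulAction.stabilizer Co0 Spor.leechU) fun g => ?_]
  · exact (S0402.result _ sq_U).2
  · constructor
    · rintro ⟨h1, h2⟩
      exact h2
    · intro h
      exact ⟨g.2, h⟩

theorem mcl_pair : sqNorm ((-(Spor.leechV + Spor.leechU) : leechLattice) : GolayPt → ℤ) = 32 ∧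
    dotInt (Spor.leechU : GolayPt → ℤ) ((-(Spor.leechV + Spor.leechU) : leechLattice) : GolayPt → ℤ) = -8 := by
  rw [add_comm Spor.leechV, AddSubgroup.coe_neg, AddSubgroup.coe_add, sqNorm_neg', sqNorm_add', dotInt_neg_add, sq_V,
    sq_U, dotInt_comm', dot_VU]
  norm_num

theorem card_McL : Nat.card Spor.McL = 898128000 := by
  rw [card_eq_of Spor.McL (inf_le_left.trans inf_le_left) (MulAction.stabilizer Co0 Spor.leechU ⊓
    MulAction.stabilizer Co0 (-(Spor.leechV + Spor.leechU))) fun g => ?_]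
  · exact (S0404.result _ _ sq_U mcl_pair.1 mcl_pair.2).2
  · constructor
    · rintro ⟨⟨h1, h2⟩, h3⟩
      exact ⟨h3, fix_neg_add h2 h3⟩
    · rintro ⟨h1, h2⟩
      have h1' : g • Spor.leechU = Spor.leechU := h1
      have h3 : g • Spor.leechV = Spor.leechV := by
        have h2' : g • (-(Spor.leechV + Spor.leechU)) = -(Spor.leechV + Spor.leechU) := h2
        rw [smul_neg', smul_add', h1'] at h2'
        exact add_right_cancel (neg_injective h2')
      exact ⟨⟨g.2, h3⟩, h1'⟩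

/-- a triple with `w = V`, `x = U` -/
theorem exists_tri_mcl : ∃ v, Tri v Spor.leechV Spor.leechU := by
  obtain ⟨x, T⟩ := exists_tri sq_V hs_pair.1 hs_pair.2
  set w := (-(Spor.leechV + Spor.leechU') : leechLattice) with hw
  -- `a = x`, `b = -(x + w)`
  have hb : sqNorm ((-(x + w) : leechLattice) : GolayPt → ℤ) = 32 := by
    rw [AddSubgroup.coe_neg, AddSubgroup.coe_add, sqNorm_neg', sqNorm_add', T.hx, T.hw, dotInt_comm', T.hwx]
    norm_num
  have hab : dotInt (x : GolayPt → ℤ) ((-(x + w) : leechLattice) : GolayPt → ℤ) = -8 := by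
    rw [AddSubgroup.coe_neg, AddSubgroup.coe_add, dotInt_neg_add, T.hx, dotInt_comm', T.hwx]
    norm_num
  obtain ⟨g, hg⟩ := S0400.result x Spor.leechU T.hx sq_U
  obtain ⟨k, hk1, hk2⟩ := S1575.result Spor.leechU (g • (-(x + w))) (-(Spor.leechV + Spor.leechU)) sq_U
    (by rw [sqNorm_smul', hb]) mcl_pair.1 (by
      rw [← hg, dotInt_smul', hab]) mcl_pair.2
  refine ⟨(k * g) • Spor.leechV, ?_⟩
  have T' := T.smul (k * g)
  have e1 : (k * g) • x = Spor.leechU := by rw [mul_smul, hg, hk1]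
  have e2 : (k * g) • w = Spor.leechV := by
    have h1 : (k * g) • (-(x + w)) = -(Spor.leechV + Spor.leechU) := by rw [mul_smul, hk2]
    rw [smul_neg', smul_add', e1, add_comm] at h1
    exact add_right_cancel (neg_injective h1)
  rwa [e1, e2] at T'

theorem row_hs_five [hp : Fact (Nat.Prime 5)] {G : Type u} [Group G] (hG : Spor.IsoHS G) :
    FullP 5 G ∨ H794.NFus 5 G := by
  obtain ⟨e⟩ := hG
  refine or_of_mulEquiv e.symm ?_
  have : Finite Spor.HS := Nat.finite_of_card_ne_zero (by rw [card_HS]; norm_num)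
  obtain ⟨x, T⟩ := exists_tri sq_V hs_pair.1 hs_pair.2
  exact T.row Spor.HS (by rw [card_HS]; norm_num) fun g h1 h2 _ => mem_HS h1 h2

theorem row_co3_five [hp : Fact (Nat.Prime 5)] {G : Type u} [Group G] (hG : Spor.IsoCo3 G) :
    FullP 5 G ∨ H794.NFus 5 G := by
  obtain ⟨e⟩ := hG
  refine or_of_mulEquiv e.symm ?_
  have : Finite Spor.Co3 := Nat.finite_of_card_ne_zero (by rw [card_Co3]; norm_num)
  obtain ⟨x, T⟩ := exists_tri sq_V hs_pair.1 hs_pair.2
  exact T.row Spor.Co3 (by rw [card_Co3]; norm_num) fun g h1 _ _ => ⟨g.2, h1⟩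

theorem row_mcl_five [hp : Fact (Nat.Prime 5)] {G : Type u} [Group G] (hG : Spor.IsoMcL G) :
    FullP 5 G ∨ H794.NFus 5 G := by
  obtain ⟨e⟩ := hG
  refine or_of_mulEquiv e.symm ?_
  have : Finite Spor.McL := Nat.finite_of_card_ne_zero (by rw [card_McL]; norm_num)
  obtain ⟨x, T⟩ := exists_tri_mcl
  exact T.row Spor.McL (by rw [card_McL]; norm_num) fun g _ h1 h2 => ⟨⟨g.2, h1⟩, h2⟩

theorem row_co2_five [hp : Fact (Nat.Prime 5)] {G : Type u} [Group G] (hG : Spor.IsoCo2 G) :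
    FullP 5 G ∨ H794.NFus 5 G := by
  obtain ⟨e⟩ := hG
  refine or_of_mulEquiv e.symm ?_
  have : Finite Spor.Co2 := Nat.finite_of_card_ne_zero (by rw [card_Co2]; norm_num)
  obtain ⟨x, T⟩ := exists_tri_mcl
  exact T.row Spor.Co2 (by rw [card_Co2]; norm_num) fun g _ _ h2 => ⟨g.2, h2⟩

end Cfsg.Agent.H792.SpU35
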