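import Cfsg.Agent.H792.SpAbel
import Cfsg.Agent.H898.J3Cent
import Cfsg.Agent.CpAutJThree.Row

/-!
# The row `J₃`, `p = 3`: `N_G(S)` controls fusion (helper792)

In the model `3·J₃` a Sylow 3-subgroup is `{ω^s E^k A_a D_w}`.  The image `Z` of `{ω^s A_a}` is central in the image `S` and
its nontrivial elements commute with no involution, the elements of order 3 of `S` outside `Z` do.
-/

set_option autoImplicit false
set_option maxRecDepth 100000
set_option linter.unusedSectionVars false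

namespace Cfsg.Agent.H792.SpJ3

open Subgroup Cfsg Cfsg.Spor Cfsg.Agent.H749 Cfsg.Agent.H792.SpCube Cfsg.Agent.J3.Core Cfsg.Agent.J3.Tab
  Cfsg.Agent.J3.Mono Cfsg.Agent.J3.Elts Cfsg.Agent.H898.J3Three
open Cfsg.Agent.J3.Nineteen (exists_scalar center_eq card_center)

theorem chk_cube : ∀ k : Fin 3, ∀ a w : F9, w ≠ 0 → cubeB (tab k a w) (tS 0) = false := by decide +kernel

theorem div_zero' : ∀ z : F9, F9.div 0 z = 0 := by decide
theorem zero_ne1 : (0 : F9) ≠ F9.I - F9.one := by decide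
theorem zero_ne2 : (0 : F9) ≠ -F9.I - F9.one := by decide

/-- the element `-1` -/
def m1 : F9 := (2, 0)
theorem m1_ne : m1 ≠ 0 := by decide
theorem m1_sq : F9.mul m1 m1 = F9.one := by decide

section
variable {F : Type*} [Field F] {ω : F}

theorem d_zero (G : Gens F ω) : G.d 0 = 1 := by
  apply mat_injective
  rw [G.hd, map_one]
  ext w z
  unfold j3D
  rw [Matrix.of_apply, add_zero, Matrix.one_apply]
  by_cases h : w = z
  · rw [if_pos h, if_pos h]
    unfold j3Lam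
    rw [div_zero', if_neg zero_ne1, if_neg zero_ne2]
    simp
  · rw [if_neg h, if_neg h]

/-- the projection -/
abbrev pr : threeJ3 F ω →* J3 F ω := QuotientGroup.mk' (center (threeJ3 F ω))

theorem pr_s0 [Fintype F] (hF : Fintype.card F = 4) (H : Good ω) {s0 : threeJ3 F ω} (hs0 : mat ω s0 = ω • 1) (n : ℕ) :
    pr (ω := ω) (s0 ^ n) = 1 := by
  rw [map_pow]
  have h1 : pr (ω := ω) s0 = 1 := by
    show (QuotientGroup.mk s0 : J3 F ω) = 1
    rw [QuotientGroup.eq_one_iff, center_eq hF H hs0]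
    exact mem_zpowers s0
  rw [h1, one_pow]

theorem a_zero (H : Good ω) (G : Gens F ω) : G.a 0 = 1 := by
  have h1 := aa G H 0 0
  rw [add_zero] at h1
  exact mul_eq_left.1 h1

/-- the subgroup of the images of the `A_a` -/
def Z (H : Good ω) (G : Gens F ω) : Subgroup (J3 F ω) where
  carrier := {x | ∃ a : F9, x = pr (G.a a)}
  one_mem' := ⟨0, by rw [a_zero H G, map_one]⟩
  mul_mem' := by
    rintro _ _ ⟨a, rfl⟩ ⟨b, rfl⟩
    exact ⟨a + b, by rw [← map_mul, aa G H]⟩
  inv_mem' := by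
    rintro _ ⟨a, rfl⟩
    refine ⟨-a, ?_⟩
    rw [inv_eq_iff_mul_eq_one, ← map_mul, aa G H, add_neg_cancel, a_zero H G, map_one]

theorem Z_comm (H : Good ω) (G : Gens F ω) : IsMulCommutative (Z H G) := by
  refine ⟨⟨?_⟩⟩
  rintro ⟨_, a, rfl⟩ ⟨_, b, rfl⟩
  apply Subtype.ext
  show pr (G.a a) * pr (G.a b) = pr (G.a b) * pr (G.a a)
  rw [← map_mul, ← map_mul, aa G H, aa G H, add_comm]

theorem finite_three [Fintype F] (hF : Fintype.card F = 4) (H : Good ω) : Finite (threeJ3 F ω) :=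
  Nat.finite_of_card_ne_zero (by rw [Cfsg.Agent.J3.Order.card_threeJ3 hF H]; norm_num)

/-- the Sylow 3-subgroup of `J₃` -/
theorem exists_S [Fintype F] (hF : Fintype.card F = 4) (H : Good ω) (G : Gens F ω) [Fact (Nat.Prime 3)] :
    ∃ S : Sylow 3 (J3 F ω), ∀ x : J3 F ω, x ∈ (S : Subgroup (J3 F ω)) ↔
      ∃ (k : ℕ) (a w : F9), x = pr (G.e ^ k * (G.a a * G.d w)) := by
  obtain ⟨s0, hs0⟩ := exists_scalar H G
  have hfin := finite_three hF H
  have hcard := Cfsg.Agent.J3.Order.card_threeJ3 hF H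
  have hfac : (Nat.card (threeJ3 F ω)).factorization 3 = 6 := by
    rw [hcard, show (150698880 : ℕ) = 3 ^ 6 * 206720 by norm_num,
      Nat.factorization_mul (by norm_num) (by norm_num), Finsupp.add_apply, Nat.prime_three.factorization_pow,
      Finsupp.single_eq_same, Nat.factorization_eq_zero_of_not_dvd (by norm_num)]
  let Q : Sylow 3 (threeJ3 F ω) := Sylow.ofCard (P3 G H hs0) (by rw [card_P3, hfac]; norm_num)
  refine ⟨Q.mapSurjective (f := pr (ω := ω)) (QuotientGroup.mk'_surjective _), fun x => ?_⟩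
  constructor
  · rintro ⟨y, ⟨s, k, a, w, rfl⟩, rfl⟩
    refine ⟨k, a, w, ?_⟩
    show pr (s0 ^ s * (G.e ^ k * (G.a a * G.d w))) = _
    rw [map_mul, pr_s0 hF H hs0, one_mul]
  · rintro ⟨k, a, w, rfl⟩
    refine ⟨G.e ^ k * (G.a a * G.d w), ⟨0, k, a, w, ?_⟩, rfl⟩
    unfold el
    rw [pow_zero, one_mul]

theorem e_mod (H : Good ω) (G : Gens F ω) (k : ℕ) : G.e ^ k = G.e ^ (k % 3) := by
  conv_lhs => rw [← Nat.div_add_mod k 3, pow_add, pow_mul, e_cube G H, one_pow, one_mul]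

theorem cube_ne (H : Good ω) (G : Gens F ω) {k : ℕ} {a w : F9} (hw : w ≠ 0) :
    (G.e ^ k * (G.a a * G.d w)) ^ 3 ≠ 1 := by
  obtain ⟨s0, hs0⟩ := exists_scalar H G
  intro h
  rw [e_mod H G k] at h
  let k' : Fin 3 := ⟨k % 3, Nat.mod_lt _ (by norm_num)⟩
  have h3 : RepG ω (tab k' a w) (el G s0 0 (k % 3) a w) := repG_el G H hs0 k' a w
  have e0 : el G s0 0 (k % 3) a w = G.e ^ (k % 3) * (G.a a * G.d w) := by
    unfold el
    rw [pow_zero, one_mul]
  rw [e0] at h3
  have h5 : RepG ω (tS 0) ((G.e ^ (k % 3) * (G.a a * G.d w)) ^ 3) := by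
    rw [h]; exact repG_one H
  have h6 : RepG ω (compT (tab k' a w) (compT (tab k' a w) (tab k' a w))) ((G.e ^ (k % 3) * (G.a a * G.d w)) ^ 3) := by
    have := h3.mul (h3.mul h3)
    rwa [← pow_two, ← pow_succ'] at this
  have h7 : cubeB (tab k' a w) (tS 0) = true := by
    unfold cubeB
    rw [List.all_eq_true]
    intro i hi
    rw [List.mem_range] at hi
    have h8 : 2 ^ (2 * i) < 2 ^ 18 := Nat.pow_lt_pow_right (by norm_num) (by omega)
    have h9 := app_eq H h6 h5 h8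
    rw [appT_compT, appT_compT] at h9
    rw [h9]
    exact Nat.beq_refl _
  rw [chk_cube k' a w hw] at h7
  exact Bool.false_ne_true h7

theorem chk_b1 : beqL (compT (tB m1) (cols (tB m1))) (cols (tS 0)) = true := by decide +kernel
theorem chk_b2 : beqL (compT tE (cols (tB m1))) (compT (tB m1) (cols tE)) = true := by decide +kernel
theorem chk_b3 : (cols (tB m1)).getD (idx (1, 0)) 0 ≠ (cols (tS 0)).getD (idx (1, 0)) 0 := by decide +kernel

theorem two_a : ∀ a : F9, 2 • (a + a) = a := by decide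
theorem three_a : ∀ a : F9, a + a + a = 0 := by decide

/-- the involution commuting with `E` -/
theorem exists_inv [Fintype F] (hF : Fintype.card F = 4) (H : Good ω) (G : Gens F ω) :
    orderOf (pr (G.b m1) : J3 F ω) = 2 ∧ pr (G.b m1) * pr G.e = pr G.e * pr (G.b m1) := by
  obtain ⟨s0, hs0⟩ := exists_scalar H G
  have rb : RepG ω (tB m1) (G.b m1) := by
    unfold RepG; rw [G.hb _ m1_ne]; exact repB H _ m1_ne
  have re : RepG ω tE G.e := by
    unfold RepG; rw [G.he]; exact repE H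
  have hbb : G.b m1 * G.b m1 = 1 :=
    (rb.mul rb).ext (repG_one H) (by rw [cols_compT]; exact beqL_eq chk_b1)
  have heb : G.e * G.b m1 = G.b m1 * G.e :=
    (re.mul rb).ext (rb.mul re) (by rw [cols_compT, cols_compT]; exact beqL_eq chk_b2)
  have hb1 : G.b m1 ≠ 1 := by
    intro h
    have h1 := repG_one H
    rw [← h] at h1
    exact chk_b3 (rb.cols_eq H h1 (1, 0))
  refine ⟨?_, by rw [← map_mul, ← map_mul, heb]⟩
  refine orderOf_eq_prime ?_ ?_
  · rw [pow_two, ← map_mul, hbb, map_one]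
  · intro h
    have h1 : G.b m1 ∈ center (threeJ3 F ω) := (QuotientGroup.eq_one_iff _).1 h
    have h2 : G.b m1 ^ 3 = 1 := by
      have h3 := card_center hF H
      have h4 : (⟨G.b m1, h1⟩ : center (threeJ3 F ω)) ^ Nat.card (center (threeJ3 F ω)) = 1 := pow_card_eq_one'
      rw [h3] at h4
      exact congrArg Subtype.val h4
    apply hb1
    have h3 : G.b m1 ^ 3 = G.b m1 := by rw [pow_succ, pow_two, hbb, one_mul]
    rw [← h3, h2]

/-- `D_w E^k = E^k A_{kw} D_w` modulo scalars -/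
theorem pr_dek [Fintype F] (hF : Fintype.card F = 4) (H : Good ω) (G : Gens F ω) (w : F9) (k : ℕ) :
    pr (G.d w) * pr G.e ^ k = (pr G.e ^ k * pr (G.a (k • w))) * pr (G.d w) := by
  obtain ⟨s0, hs0⟩ := exists_scalar H G
  have h1 : pr (G.d w) * pr G.e = pr G.e * pr (G.a w) * pr (G.d w) := by
    rw [← map_mul, de G H hs0, map_mul, pr_s0 hF H hs0, one_mul, map_mul, map_mul, mul_assoc]
  induction k with
  | zero => rw [pow_zero, mul_one, zero_smul, a_zero H G, map_one, one_mul, one_mul]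
  | succ k ih =>
    rw [pow_succ, ← mul_assoc, ih, mul_assoc _ (pr (G.d w)), h1]
    have h2 : pr (G.a (k • w)) * pr G.e = pr G.e * pr (G.a (k • w)) := by
      rw [← map_mul, ae G H, map_mul]
    have h3 : pr (G.a (k • w)) * pr (G.a w) = pr (G.a ((k + 1) • w)) := by
      rw [← map_mul, aa G H, add_smul, one_smul]
    calc pr G.e ^ k * pr (G.a (k • w)) * (pr G.e * pr (G.a w) * pr (G.d w))
        = pr G.e ^ k * (pr (G.a (k • w)) * pr G.e) * pr (G.a w) * pr (G.d w) := by simp only [mul_assoc]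
      _ = pr G.e ^ k * pr G.e * (pr (G.a (k • w)) * pr (G.a w)) * pr (G.d w) := by rw [h2]; simp only [mul_assoc]
      _ = _ := by rw [h3]

/-- the elements of order three of `S` outside `Z` commute with involutions -/
theorem comm_inv [Fintype F] (hF : Fintype.card F = 4) (H : Good ω) (G : Gens F ω) {k : ℕ} {a w : F9}
    (hx : (pr (G.e ^ k * (G.a a * G.d w)) : J3 F ω) ^ 3 = 1) (hxZ : (pr (G.e ^ k * (G.a a * G.d w)) : J3 F ω) ∉ Z H G) :
    ∃ t : J3 F ω, orderOf t = 2 ∧ t * pr (G.e ^ k * (G.a a * G.d w)) = pr (G.e ^ k * (G.a a * G.d w)) * t := by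
  have hw : w = 0 := by
    by_contra hw
    apply cube_ne H G hw (k := k) (a := a)
    apply cube_eq_one hF H
    rw [← map_pow] at hx
    exact (QuotientGroup.eq_one_iff _).1 hx
  subst hw
  rw [d_zero G, mul_one] at hxZ ⊢
  have hk : k % 3 ≠ 0 := by
    intro h
    apply hxZ
    rw [e_mod H G k, h, pow_zero, one_mul]
    exact ⟨a, rfl⟩
  obtain ⟨v, hv⟩ : ∃ v : F9, (k % 3) • v = a := by
    have h1 : k % 3 = 1 ∨ k % 3 = 2 := by omega
    rcases h1 with h | h
    · exact ⟨a, by rw [h, one_smul]⟩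
    · exact ⟨a + a, by rw [h, two_a]⟩
  obtain ⟨hb2, hbe⟩ := exists_inv hF H G
  have h2 := pr_dek hF H G v (k % 3)
  rw [hv] at h2
  have h3 : (pr (G.e ^ k * G.a a) : J3 F ω) = pr (G.d v) * pr G.e ^ (k % 3) * (pr (G.d v))⁻¹ := by
    rw [h2, mul_inv_cancel_right, map_mul, e_mod H G k, map_pow]
  refine ⟨pr (G.d v) * pr (G.b m1) * (pr (G.d v))⁻¹, ?_, ?_⟩
  · exact (orderOf_injective (MulAut.conj (pr (G.d v) : J3 F ω)).toMonoidHom
      (MulAut.conj (pr (G.d v) : J3 F ω)).injective _).trans hb2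
  · rw [h3]
    have h4 : pr (G.b m1) * pr G.e ^ (k % 3) = pr G.e ^ (k % 3) * pr (G.b m1) :=
      ((show Commute (pr (G.b m1) : J3 F ω) (pr G.e) from hbe).pow_right _).eq
    calc pr (G.d v) * pr (G.b m1) * (pr (G.d v))⁻¹ * (pr (G.d v) * pr G.e ^ (k % 3) * (pr (G.d v))⁻¹)
        = pr (G.d v) * (pr (G.b m1) * pr G.e ^ (k % 3)) * (pr (G.d v))⁻¹ := by group
      _ = pr (G.d v) * (pr G.e ^ (k % 3) * pr (G.b m1)) * (pr (G.d v))⁻¹ := by rw [h4]
      _ = _ := by group

/-- `Z` is central in `S` -/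
theorem pr_comm [Fintype F] (hF : Fintype.card F = 4) (H : Good ω) (G : Gens F ω) (x : F9) (k : ℕ) (a w : F9) :
    (pr (G.a x) * pr (G.e ^ k * (G.a a * G.d w)) : J3 F ω) = pr (G.e ^ k * (G.a a * G.d w)) * pr (G.a x) := by
  obtain ⟨s0, hs0⟩ := exists_scalar H G
  have h1 : (pr (G.d w) * pr (G.a x) : J3 F ω) = pr (G.a x) * pr (G.d w) := by
    rw [← map_mul, da G H hs0, map_mul, pr_s0 hF H hs0, one_mul, map_mul]
  have h2 : (pr (G.a x) * pr (G.e ^ k) : J3 F ω) = pr (G.e ^ k) * pr (G.a x) := by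
    rw [← map_mul, aek G H, map_mul]
  have h3 : (pr (G.a x) * pr (G.a a) : J3 F ω) = pr (G.a a) * pr (G.a x) := by
    rw [← map_mul, ← map_mul, aa G H, aa G H, add_comm]
  rw [map_mul, map_mul]
  calc pr (G.a x) * (pr (G.e ^ k) * (pr (G.a a) * pr (G.d w)))
      = (pr (G.a x) * pr (G.e ^ k)) * (pr (G.a a) * pr (G.d w)) := by simp only [mul_assoc]
    _ = pr (G.e ^ k) * ((pr (G.a x) * pr (G.a a)) * pr (G.d w)) := by rw [h2]; simp only [mul_assoc]
    _ = pr (G.e ^ k) * (pr (G.a a) * (pr (G.a x) * pr (G.d w))) := by rw [h3]; simp only [mul_assoc]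
    _ = _ := by rw [← h1]; simp only [mul_assoc]

theorem a_ne [Fintype F] (hF : Fintype.card F = 4) (H : Good ω) (G : Gens F ω) : (pr (G.a (1, 0)) : J3 F ω) ≠ 1 := by
  obtain ⟨s0, hs0⟩ := exists_scalar H G
  intro h
  have hfin := finite_three hF H
  have h1 : G.a (1, 0) ∈ center (threeJ3 F ω) := (QuotientGroup.eq_one_iff _).1 h
  rw [center_eq hF H hs0] at h1
  obtain ⟨n, hn⟩ := (isOfFinOrder_of_finite s0).mem_powers_iff_mem_zpowers.2 h1
  have hn' : s0 ^ n = G.a (1, 0) := hn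
  have h2 : s0 ^ n = s0 ^ (n % 3) := by
    conv_lhs => rw [← Nat.div_add_mod n 3, pow_add, pow_mul, s0_cube H hs0, one_pow, one_mul]
  have h3 : el G s0 ((0 : Fin 3) : ℕ) ((0 : Fin 3) : ℕ) (1, 0) 0 =
      el G s0 ((⟨n % 3, Nat.mod_lt _ (by norm_num)⟩ : Fin 3) : ℕ) ((0 : Fin 3) : ℕ) 0 0 := by
    unfold el
    rw [Fin.val_zero, pow_zero, pow_zero, one_mul, one_mul, d_zero G, mul_one, ← hn', h2, one_mul, a_zero H G, mul_one,
      mul_one]
  have h4 := (el_inj G H hs0 h3).2.2.1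
  exact absurd h4 (by decide)

theorem cube_Z (H : Good ω) (G : Gens F ω) (a : F9) : (pr (G.a a) : J3 F ω) ^ 3 = 1 := by
  rw [← map_pow, pow_succ, pow_two, aa G H, aa G H, three_a, a_zero H G, map_one]

end

section main
variable {F : Type} [Field F] [Fintype F] {ω : F}

/-- the nontrivial elements of `Z` commute with no involution -/
theorem no_inv (hF : Fintype.card F = 4) (hω : ω ^ 2 + ω + 1 = 0) (H : Good ω) (G : Gens F ω) [Fact (Nat.Prime 3)]
    {a : F9} (ha : (pr (G.a a) : J3 F ω) ≠ 1) {t : J3 F ω} (ht : orderOf t = 2)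
    (hta : t * pr (G.a a) = pr (G.a a) * t) : False := by
  have hI : IsoJ3 (J3 F ω) := ⟨F, inferInstance, inferInstance, ω, hF, hω, ⟨MulEquiv.refl _⟩⟩
  obtain ⟨hcard, hmod, hone, -⟩ := CpAutJThree.base hI
  have hfin : Finite (J3 F ω) := Nat.finite_of_card_ne_zero (by rw [hcard]; norm_num)
  obtain ⟨c, hc, ⟨s, hs, hsc⟩, hc1080⟩ := CpAutJThree.exc hI
  have ha3 : orderOf (pr (G.a a) : J3 F ω) = 3 := orderOf_eq_prime (cube_Z H G a) ha
  obtain ⟨g, hg⟩ := CpAutJThree.conj_three hmod hone hc ha3 hs ht hsc hta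
  have h1 := CpAutJThree.card_centralizer_conj g hg
  obtain ⟨S, hS⟩ := exists_S hF H G
  have h2 : (S : Subgroup (J3 F ω)) ≤ centralizer ({(pr (G.a a) : J3 F ω)} : Set (J3 F ω)) := by
    intro x hx
    obtain ⟨k, b, w, rfl⟩ := (hS x).1 hx
    rw [mem_centralizer_singleton_iff]
    exact (pr_comm hF H G a k b w).symm
  have h3 : 3 ^ 5 ∣ Nat.card (S : Subgroup (J3 F ω)) := S.pow_dvd_card_of_pow_dvd_card (by rw [hcard]; norm_num)
  have h4 := h3.trans (card_dvd_of_le h2)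
  rw [← h1, hc1080] at h4
  norm_num at h4

theorem closed (hF : Fintype.card F = 4) (hω : ω ^ 2 + ω + 1 = 0) (H : Good ω) (G : Gens F ω) [Fact (Nat.Prime 3)]
    (S : Sylow 3 (J3 F ω)) (hS : ∀ x : J3 F ω, x ∈ (S : Subgroup (J3 F ω)) ↔
      ∃ (k : ℕ) (a w : F9), x = pr (G.e ^ k * (G.a a * G.d w))) : IsStronglyClosed (Z H G) (S : Subgroup (J3 F ω)) := by
  refine ⟨?_, ?_⟩
  · rintro _ ⟨a, rfl⟩
    exact (hS _).2 ⟨0, a, 0, by rw [pow_zero, one_mul, d_zero G, mul_one]⟩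
  · rintro _ ⟨a, rfl⟩ g hg
    by_cases ha : (pr (G.a a) : J3 F ω) = 1
    · rw [ha, mul_one, mul_inv_cancel]
      exact one_mem _
    obtain ⟨k, b, w, hx⟩ := (hS _).1 hg
    by_contra hZ
    rw [hx] at hZ
    obtain ⟨t, ht, htx⟩ := comm_inv hF H G (by rw [← hx, conj_pow, cube_Z H G, mul_one, mul_inv_cancel]) hZ
    rw [← hx] at htx
    refine no_inv hF hω H G ha (t := g⁻¹ * t * g) ?_ ?_
    · rw [← ht]
      have := orderOf_injective (MulAut.conj g⁻¹).toMonoidHom (MulAut.conj g⁻¹).injective t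
      rw [← this]
      show _ = orderOf (g⁻¹ * t * g⁻¹⁻¹)
      rw [inv_inv]
    · calc g⁻¹ * t * g * pr (G.a a) = g⁻¹ * (t * (g * pr (G.a a) * g⁻¹)) * g := by group
        _ = g⁻¹ * ((g * pr (G.a a) * g⁻¹) * t) * g := by rw [htx]
        _ = _ := by group

theorem cent_le (hF : Fintype.card F = 4) (hω : ω ^ 2 + ω + 1 = 0) (H : Good ω) (G : Gens F ω) [Fact (Nat.Prime 3)]
    (S : Sylow 3 (J3 F ω)) (hS : ∀ x : J3 F ω, x ∈ (S : Subgroup (J3 F ω)) ↔
      ∃ (k : ℕ) (a w : F9), x = pr (G.e ^ k * (G.a a * G.d w))) :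
    (S : Subgroup (J3 F ω)) ≤ centralizer (Z H G : Set (J3 F ω)) ∧
      centralizer (Z H G : Set (J3 F ω)) ≤ normalizer ((S : Subgroup (J3 F ω)) : Set (J3 F ω)) := by
  have hI : IsoJ3 (J3 F ω) := ⟨F, inferInstance, inferInstance, ω, hF, hω, ⟨MulEquiv.refl _⟩⟩
  obtain ⟨hcard, hmod, hone, -⟩ := CpAutJThree.base hI
  have hfin : Finite (J3 F ω) := Nat.finite_of_card_ne_zero (by rw [hcard]; norm_num)
  have hSC : (S : Subgroup (J3 F ω)) ≤ centralizer (Z H G : Set (J3 F ω)) := by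
    intro x hx
    obtain ⟨k, b, w, rfl⟩ := (hS x).1 hx
    rw [mem_centralizer_iff]
    rintro _ ⟨a, rfl⟩
    exact pr_comm hF H G a k b w
  refine ⟨hSC, ?_⟩
  set z : J3 F ω := pr (G.a (1, 0)) with hz
  have hz1 : z ≠ 1 := a_ne hF H G
  have hz3 : orderOf z = 3 := orderOf_eq_prime (cube_Z H G _) hz1
  -- the order of the centralizer of `z`
  have hn : ∀ q : ℕ, q.Prime → q ∣ Nat.card (centralizer ({z} : Set (J3 F ω))) → q ≠ 2 ∧ q ≠ 17 ∧ q ≠ 19 := by
    intro q hq hd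
    have := Fact.mk hq
    obtain ⟨⟨y, hy⟩, hyo⟩ := exists_prime_orderOf_dvd_card' (G := centralizer ({z} : Set (J3 F ω))) q hd
    rw [← orderOf_coe] at hyo
    rw [mem_centralizer_singleton_iff] at hy
    have key : ∀ m : ℕ, orderOf y = m → Nat.card (centralizer ({y} : Set (J3 F ω))) = m → 3 ∣ m := by
      intro m _ h1
      have h5 : orderOf z ∣ Nat.card (centralizer ({y} : Set (J3 F ω))) :=
        Subgroup.orderOf_dvd_natCard _ (mem_centralizer_singleton_iff.2 hy.symm)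
      rw [h1, hz3] at h5
      exact h5
    refine ⟨?_, ?_, ?_⟩
    · rintro rfl
      exact no_inv hF hω H G hz1 hyo hy
    · rintro rfl
      have := key 17 hyo (Cfsg.Agent.H898.J3Cent.seventeen hI hyo).1
      norm_num at this
    · rintro rfl
      have := key 19 hyo (Cfsg.Agent.H898.J3Cent.card_nineteen hI hyo)
      norm_num at this
  have hdvd : Nat.card (centralizer ({z} : Set (J3 F ω))) ∣ 1215 := by
    have h1 : Nat.card (centralizer ({z} : Set (J3 F ω))) ∣ 1215 * (2 ^ 7 * (17 * 19)) := by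
      have h2 := card_subgroup_dvd_card (centralizer ({z} : Set (J3 F ω)))
      rw [hcard] at h2
      norm_num at h2 ⊢
      exact h2
    refine Nat.Coprime.dvd_of_dvd_mul_right ?_ h1
    have cop : ∀ q : ℕ, q.Prime → (q = 2 ∨ q = 17 ∨ q = 19) →
        (Nat.card (centralizer ({z} : Set (J3 F ω)))).Coprime q := by
      intro q hq h3
      rw [Nat.coprime_comm, Nat.Prime.coprime_iff_not_dvd hq]
      intro hd
      obtain ⟨a1, a2, a3⟩ := hn q hq hd
      rcases h3 with h | h | h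
      · exact a1 h
      · exact a2 h
      · exact a3 h
    exact Nat.Coprime.mul_right ((cop 2 Nat.prime_two (by simp)).pow_right 7)
      (Nat.Coprime.mul_right (cop 17 (by norm_num) (by simp)) (cop 19 (by norm_num) (by simp)))
  -- one Sylow subgroup
  set C := centralizer (Z H G : Set (J3 F ω)) with hC
  have hCz : C ≤ centralizer ({z} : Set (J3 F ω)) := by
    intro x hx
    rw [mem_centralizer_singleton_iff]
    exact (mem_centralizer_iff.1 hx z ⟨_, rfl⟩).symm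
  let S' : Sylow 3 C := S.subtype hSC
  have hS' : Nat.card (S' : Subgroup C) = Nat.card (S : Subgroup (J3 F ω)) :=
    Nat.card_congr (Subgroup.subgroupOfEquivOfLe hSC).toEquiv
  have h243 : 243 ∣ Nat.card (S : Subgroup (J3 F ω)) := by
    have := S.pow_dvd_card_of_pow_dvd_card (n := 5) (by rw [hcard]; norm_num)
    norm_num at this
    exact this
  have hidx : (S' : Subgroup C).index ∣ 5 := by
    have h1 := (S' : Subgroup C).card_mul_index
    have h2 : Nat.card C ∣ 1215 := (card_dvd_of_le hCz).trans hdvd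
    rw [← h1, hS'] at h2
    obtain ⟨m, hm⟩ := h243
    rw [hm] at h2
    have h3 : (S' : Subgroup C).index * 243 ∣ 5 * 243 := by
      refine Dvd.dvd.trans ?_ h2
      exact ⟨m, by ring⟩
    exact Nat.dvd_of_mul_dvd_mul_right (by norm_num) h3
  have hs1 : Nat.card (Sylow 3 C) = 1 := by
    have h1 : Nat.card (Sylow 3 C) ∣ 5 := (S'.card_dvd_index).trans hidx
    have h2 := card_sylow_modEq_one 3 C
    rcases (Nat.dvd_prime (by norm_num : Nat.Prime 5)).1 h1 with h | h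
    · exact h
    · rw [h] at h2
      exact absurd h2 (by decide)
  have hsub : Subsingleton (Sylow 3 C) := (Nat.card_eq_one_iff_unique.1 hs1).1
  intro c hc
  have key : ∀ c ∈ C, ∀ s ∈ (S : Subgroup (J3 F ω)), c * s * c⁻¹ ∈ (S : Subgroup (J3 F ω)) := by
    intro c hc s hs
    have h1 : (⟨c, hc⟩ : C) • S' = S' := Subsingleton.elim _ _
    have h2 : (⟨c, hc⟩ : C) * ⟨s, hSC hs⟩ * (⟨c, hc⟩ : C)⁻¹ ∈ (S' : Subgroup C) := by
      rw [← h1, Sylow.coe_subgroup_smul]
      exact ⟨⟨s, hSC hs⟩, hs, rfl⟩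
    exact h2
  rw [mem_normalizer_iff]
  intro s
  refine ⟨key c hc s, fun hs => ?_⟩
  have := key c⁻¹ (inv_mem hc) _ hs
  rwa [show c⁻¹ * (c * s * c⁻¹) * c⁻¹⁻¹ = s by group] at this

theorem nfus (hF : Fintype.card F = 4) (hω : ω ^ 2 + ω + 1 = 0) [Fact (Nat.Prime 3)] : H794.NFus 3 (J3 F ω) := by
  have H := good_of_card hF hω
  obtain ⟨G⟩ := exists_gens hF H
  obtain ⟨S, hS⟩ := exists_S hF H G
  have hfin := finite_three hF H
  obtain ⟨h1, h2⟩ := cent_le hF hω H G S hS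
  exact nfus_of_abelian S (Z H G) (Z_comm H G) (closed hF hω H G S hS) (SpCube.normalizer_le S (Z H G) h1 h2)

end main

theorem nfus_j3_three [Fact (Nat.Prime 3)] {K : Type*} [Group K] (h : IsoJ3 K) : H794.NFus 3 K := by
  obtain ⟨F, _, _, ω, hF, hω, ⟨e⟩⟩ := h
  exact nfus_of_mulEquiv e.symm (nfus hF hω)

end Cfsg.Agent.H792.SpJ3
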