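import Cfsg.Agent.H792.Sp.JThreeTop

/-!
# `J₃`, `p = 3`: the centre of a Sylow subgroup has exponent three (helper792)
-/

set_option autoImplicit false
set_option maxRecDepth 100000
set_option linter.unusedSectionVars false

namespace Cfsg.Agent.H792.SpJ3

open Subgroup Cfsg Cfsg.Spor Cfsg.Agent.H749 Cfsg.Agent.H792.SpCube Cfsg.Agent.J3.Core Cfsg.Agent.J3.Tab
  Cfsg.Agent.J3.Mono Cfsg.Agent.J3.Elts Cfsg.Agent.H898.J3Three
open Cfsg.Agent.J3.Nineteen (exists_scalar center_eq card_center)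

section
variable {F : Type*} [Field F] {ω : F}

theorem a_ne' [Fintype F] (hF : Fintype.card F = 4) (H : Good ω) (G : Gens F ω) {x : F9} (hx : x ≠ 0) :
    (pr (G.a x) : J3 F ω) ≠ 1 := by
  obtain ⟨s0, hs0⟩ := exists_scalar H G
  intro h
  have hfin := finite_three hF H
  have h1 : G.a x ∈ center (threeJ3 F ω) := (QuotientGroup.eq_one_iff _).1 h
  rw [center_eq hF H hs0] at h1
  obtain ⟨n, hn⟩ := (isOfFinOrder_of_finite s0).mem_powers_iff_mem_zpowers.2 h1
  have hn' : s0 ^ n = G.a x := hn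
  have h2 : s0 ^ n = s0 ^ (n % 3) := by
    conv_lhs => rw [← Nat.div_add_mod n 3, pow_add, pow_mul, s0_cube H hs0, one_pow, one_mul]
  have h3 : el G s0 ((0 : Fin 3) : ℕ) ((0 : Fin 3) : ℕ) x 0 =
      el G s0 ((⟨n % 3, Nat.mod_lt _ (by norm_num)⟩ : Fin 3) : ℕ) ((0 : Fin 3) : ℕ) 0 0 := by
    unfold el
    rw [Fin.val_zero, pow_zero, pow_zero, one_mul, one_mul, d_zero G, mul_one, ← hn', h2, one_mul, a_zero H G, mul_one,
      mul_one]
  exact hx (el_inj G H hs0 h3).2.2.1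

/-- the elements of `S` that commute with `E` have no `D`-part -/
theorem w_zero [Fintype F] (hF : Fintype.card F = 4) (H : Good ω) (G : Gens F ω) {k : ℕ} {a w : F9}
    (h : (pr (G.e ^ k * (G.a a * G.d w)) : J3 F ω) * pr G.e = pr G.e * pr (G.e ^ k * (G.a a * G.d w))) : w = 0 := by
  by_contra hw
  apply a_ne' hF H G hw
  have h1 := pr_dek hF H G w 1
  rw [pow_one, one_smul] at h1
  have h2 : (pr (G.a a) * pr G.e : J3 F ω) = pr G.e * pr (G.a a) := by rw [← map_mul, ae G H, map_mul]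
  rw [map_mul, map_mul, map_pow] at h
  have h3 : pr G.e ^ k * (pr (G.a a) * pr (G.d w)) * pr G.e =
      (pr G.e * (pr G.e ^ k * pr (G.a a))) * (pr (G.a w) * pr (G.d w) : J3 F ω) := by
    calc pr G.e ^ k * (pr (G.a a) * pr (G.d w)) * pr G.e
        = pr G.e ^ k * (pr (G.a a) * (pr (G.d w) * pr G.e)) := by simp only [mul_assoc]
      _ = pr G.e ^ k * ((pr (G.a a) * pr G.e) * (pr (G.a w) * pr (G.d w))) := by rw [h1]; simp only [mul_assoc]
      _ = (pr G.e ^ k * pr G.e) * (pr (G.a a) * (pr (G.a w) * pr (G.d w))) := by rw [h2]; simp only [mul_assoc]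
      _ = (pr G.e * pr G.e ^ k) * (pr (G.a a) * (pr (G.a w) * pr (G.d w))) := by rw [← pow_succ, pow_succ']
      _ = _ := by simp only [mul_assoc]
  rw [h3] at h
  have h4 : (pr G.e * (pr G.e ^ k * (pr (G.a a) * pr (G.d w))) : J3 F ω) =
      (pr G.e * (pr G.e ^ k * pr (G.a a))) * pr (G.d w) := by simp only [mul_assoc]
  rw [h4] at h
  exact mul_eq_right.1 (mul_left_cancel h)

theorem expZ_model [Fintype F] (hF : Fintype.card F = 4) (H : Good ω) (G : Gens F ω) [Fact (Nat.Prime 3)]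
    (S : Sylow 3 (J3 F ω)) (hS : ∀ x : J3 F ω, x ∈ (S : Subgroup (J3 F ω)) ↔
      ∃ (k : ℕ) (a w : F9), x = pr (G.e ^ k * (G.a a * G.d w))) :
    ∀ z ∈ (S : Subgroup (J3 F ω)) ⊓ centralizer ((S : Subgroup (J3 F ω)) : Set (J3 F ω)), z ^ 3 = 1 := by
  intro z hz
  obtain ⟨k, a, w, rfl⟩ := (hS z).1 hz.1
  have hE : (pr G.e : J3 F ω) ∈ (S : Subgroup (J3 F ω)) :=
    (hS _).2 ⟨1, 0, 0, by rw [pow_one, a_zero H G, d_zero G, mul_one, mul_one]⟩
  have hw := w_zero hF H G (mem_centralizer_iff.1 hz.2 _ hE).symm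
  subst hw
  rw [d_zero G, mul_one, map_mul, map_pow]
  have h2 : Commute (pr (G.e) : J3 F ω) (pr (G.a a)) := by
    show pr G.e * pr (G.a a) = pr (G.a a) * pr G.e
    rw [← map_mul, ← ae G H, map_mul]
  rw [(h2.pow_left k).mul_pow, cube_Z H G, mul_one, ← pow_mul, mul_comm, pow_mul, ← map_pow, e_cube G H, map_one,
    one_pow]

end

/-- the centre of a Sylow `3`-subgroup of `J₃` has exponent three -/
theorem expZ_j3 [Fact (Nat.Prime 3)] {K : Type*} [Group K] (h : IsoJ3 K) (P : Sylow 3 K) :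
    ∀ z ∈ (P : Subgroup K) ⊓ centralizer ((P : Subgroup K) : Set K), z ^ 3 = 1 := by
  obtain ⟨F, _, _, ω, hF, hω, ⟨e⟩⟩ := h
  have H := good_of_card hF hω
  obtain ⟨G⟩ := exists_gens hF H
  obtain ⟨S0, hS0⟩ := exists_S hF H G
  have hfin := finite_three hF H
  have hfK : Finite K := Finite.of_equiv _ e.symm.toEquiv
  let S1 : Sylow 3 (J3 F ω) := P.mapSurjective (f := e.toMonoidHom) e.surjective
  obtain ⟨g, hg⟩ := MulAction.exists_smul_eq (J3 F ω) S1 S0
  intro z hz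
  have h1 : (S0 : Subgroup (J3 F ω)) = ((P : Subgroup K).map e.toMonoidHom).map (MulAut.conj g).toMonoidHom := by
    rw [← hg]; rfl
  have h2 : (MulAut.conj g (e z)) ^ 3 = 1 := by
    apply expZ_model hF H G S0 hS0
    refine ⟨?_, ?_⟩
    · show MulAut.conj g (e z) ∈ (S0 : Subgroup (J3 F ω))
      rw [h1]
      exact ⟨_, ⟨z, hz.1, rfl⟩, rfl⟩
    · show MulAut.conj g (e z) ∈ centralizer ((S0 : Subgroup (J3 F ω)) : Set (J3 F ω))
      rw [mem_centralizer_iff]
      intro y hy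
      rw [SetLike.mem_coe, h1] at hy
      obtain ⟨_, ⟨x, hx, rfl⟩, rfl⟩ := hy
      show MulAut.conj g (e x) * MulAut.conj g (e z) = MulAut.conj g (e z) * MulAut.conj g (e x)
      rw [← map_mul, ← map_mul, ← map_mul, ← map_mul, mem_centralizer_iff.1 hz.2 x hx]
  rw [← map_pow, ← map_pow] at h2
  exact e.injective ((MulAut.conj g).injective (h2.trans (by rw [map_one, map_one])))

end Cfsg.Agent.H792.SpJ3
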