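import Cfsg.Agent.H792.Sp.LieRows
import Cfsg.Agent.S1685
import Cfsg.Agent.S1686
import Cfsg.Agent.S1692
import Cfsg.Agent.S1693
import Cfsg.Agent.S1709
import Cfsg.Agent.S1710

/-!
# Rows `FullP 3 Fi₂₂`, `FullP 7 O'N`, `FullP 5 Ly` (helper792)
-/

set_option autoImplicit false

namespace Cfsg.Agent.H792.SpLie

open Subgroup Cfsg Cfsg.Agent.H749

universe u

/-- subgroups of finite index prime to `p` -/
theorem fullP_of_index {p : ℕ} [hp : Fact p.Prime] {G : Type*} [Group G] (H : Subgroup G) [Finite H] {n : ℕ}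
    (hi : H.index = n) (hn : ¬ p ∣ n) (h : FullP p H) : FullP p G := by
  have hn0 : n ≠ 0 := by
    rintro rfl
    exact hn (dvd_zero p)
  have hf : Finite G := by
    refine Nat.finite_of_card_ne_zero ?_
    rw [← H.card_mul_index, hi]
    exact Nat.mul_ne_zero Nat.card_pos.ne' hn0
  refine SpTool.fullP_of_subgroup H ?_ h
  rw [hi]
  exact hn

theorem fullP_fi22_three [hp : Fact (Nat.Prime 3)] {G : Type u} [Group G] (hG : Spor.IsoFi22 G) : FullP 3 G := by
  obtain ⟨e⟩ := hG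
  refine FullP.of_mulEquiv e.symm ?_
  obtain ⟨e'⟩ := S1686.result
  have hf : Finite (POmega (ZMod 3) (quadFormOdd 3 (ZMod 3))) :=
    Nat.finite_of_card_ne_zero (by rw [card_pomega_seven_three]; norm_num)
  have := Finite.of_equiv _ e'.toEquiv.symm
  exact fullP_of_index _ S1685.result (by norm_num) (FullP.of_mulEquiv e'.symm fullP_pomega_seven_three)

theorem fullP_ly_five [hp : Fact (Nat.Prime 5)] {G : Type u} [Group G] (hG : Spor.IsoLy G) : FullP 5 G := by
  obtain ⟨e⟩ := hG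
  refine FullP.of_mulEquiv e.symm ?_
  obtain ⟨K, _, _, hK, ⟨e'⟩⟩ := S1710.result
  have hf : Finite (Lie.chevG2.group K) := by
    refine Nat.finite_of_card_ne_zero ?_
    rw [Cfsg.Agent.S1059.result hK]
    norm_num
  have := Finite.of_equiv _ e'.toEquiv.symm
  exact fullP_of_index _ S1709.result (by norm_num) (FullP.of_mulEquiv e'.symm (fullP_gtwo_five K hK))

theorem fullP_on_seven [hp : Fact (Nat.Prime 7)] {G : Type u} [Group G] (hG : Spor.IsoON G) : FullP 7 G := by
  obtain ⟨e⟩ := hG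
  refine FullP.of_mulEquiv e.symm ?_
  obtain ⟨N, _, hN2, ⟨e'⟩⟩ := S1693.result
  have := Finite.of_equiv _ e'.toEquiv.symm
  have hfin : Finite (((Subgroup.closure ({Cfsg.Spor.ON.a, Cfsg.Spor.ON.b, Cfsg.Spor.ON.c, Cfsg.Spor.ON.d, Cfsg.Spor.ON.e, Cfsg.Spor.ON.f} : Set (FreeGroup Cfsg.Spor.ON.Gen))).map (PresentedGroup.mk (Cfsg.Spor.coxRelators Cfsg.Spor.ON.edges ∪ {r | r ∈ Cfsg.Spor.ON.extra})))) := by
    refine Nat.finite_of_card_ne_zero ?_
    rw [← N.card_mul_index, hN2]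
    exact Nat.mul_ne_zero Nat.card_pos.ne' two_ne_zero
  refine fullP_of_index _ S1692.result (by norm_num) ?_
  exact fullP_of_index N hN2 (by norm_num) (FullP.of_mulEquiv e'.symm fullP_psl_three_seven)

end Cfsg.Agent.H792.SpLie
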