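import Cfsg.Agent.H792.SpNoT
import Cfsg.Agent.KFacts.J2.Basic
import Cfsg.Agent.J2Type.ThreeF

/-!
# The row `J₂`, `p = 3` (helper792)
-/

set_option autoImplicit false

namespace Cfsg.Agent.H792.SpCube

open Subgroup Cfsg Cfsg.Agent.H749

universe u

theorem j2_of_fus {G : Type u} [Group G] [Finite G] [hp : Fact (Nat.Prime 3)] {z w : G} (h : J2Type.Base.Fus z w) :
    FullP 3 G ∨ H794.NFus 3 G := by
  obtain ⟨f, U, V, H0, F⟩ := J2Type.CentU.main h
  obtain ⟨d, hd, hdV, hdH⟩ := J2Type.ThreeA.exists_d h F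
  obtain ⟨P, hPd, hfP, hdP⟩ := J2Type.ThreeF.exists_sylow h F hd hdH
  obtain ⟨⟨x, y, hxy⟩, hZ, hcomm⟩ := J2Type.ThreeF.structure_P h F hd hdH hPd hfP hdP
  obtain ⟨-, hcl⟩ := J2Type.ThreeF.card_normalizer h F hd hdV hdH hPd hfP hdP
  have h27 : Nat.card (P : Subgroup G) = 3 ^ 3 := J2Type.ThreeF.card_sylow_three (J2Type.Order.card_of_fus h) P
  refine full_or_nfus_of_one P h27 ⟨x, x.2, y, y.2, fun e => hxy (Subtype.ext e)⟩ ?_
  refine noT_of_class P (by rw [h27]; norm_num) (zpowers d) (by rw [Nat.card_zpowers, hd]; norm_num)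
    (fun a ha haZ b hb hbZ => (hcl a ha haZ).symm.trans (hcl b hb hbZ)) ?_
  intro T hT hc
  obtain ⟨e, he, he1, hec⟩ := H280.StrongFusion.exists_mem_center P hT (by
    rintro rfl
    rw [card_bot] at hc
    norm_num at hc)
  have h1 : e ∈ zpowers d := hZ e (hT.1 he) fun s hs => (hec s hs).symm
  have h2 : zpowers e = zpowers d := by
    refine Subgroup.eq_of_le_of_card_ge (zpowers_le.2 h1) ?_
    have h3 : Nat.card (zpowers e) ∣ 3 := by
      rw [← hd, ← Nat.card_zpowers]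
      exact Subgroup.card_dvd_of_le (zpowers_le.2 h1)
    rcases (Nat.dvd_prime Nat.prime_three).1 h3 with h4 | h4
    · rw [Subgroup.card_eq_one, zpowers_eq_bot] at h4
      exact absurd h4 he1
    · rw [h4, Nat.card_zpowers, hd]
  rw [← h2]
  exact zpowers_le.2 he

theorem row_j2_three [hp : Fact (Nat.Prime 3)] {G : Type u} [Group G] (hG : Spor.IsoJ2 G) :
    FullP 3 G ∨ H794.NFus 3 G := by
  obtain ⟨e⟩ := hG
  refine or_of_mulEquiv e.symm ?_
  have hfin : Finite Spor.J2 := Nat.finite_of_card_ne_zero (by rw [Cfsg.Agent.S1619.result.2.2.2]; norm_num)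
  obtain ⟨t, w, Q, v, ρ, D⟩ := KFacts.J2.Basic.exists_dat
  exact j2_of_fus D.F

end Cfsg.Agent.H792.SpCube
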