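import Cfsg.Agent.H792.SpTool
import Cfsg.Agent.H792.Sp.FiONLy
import Cfsg.Agent.CpAutCo3.MTw
import Cfsg.Agent.S0364
import Cfsg.Agent.S1711
import Cfsg.Agent.J4.Upper
import Cfsg.Agent.J4.Simple
import Cfsg.Agent.J4.Dvd

/-!
# Rows `FullP 3 M₁₂`, `FullP 3 M₂₄`, `FullP 3 J₄` (helper792)
-/

set_option autoImplicit false
set_option maxRecDepth 100000

namespace Cfsg.Agent.H792.SpMat

open Subgroup Cfsg Cfsg.Agent.H749 Cfsg.Agent.CpAutCo3.MTw
open Cfsg.Agent.CoThreeStd.MTwelve (eqW cj act wd wd_eq wd_cj wd_append)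

universe u

/-- the word `n` is conjugate to `A0` -/
def tyA (n : ℕ) : Bool := eqW (cj Cfsg.Agent.CpAutCo3.MTw.wA (cw.getD n [])) (el n)
/-- the word `n` is conjugate to `B0` -/
def tyB (n : ℕ) : Bool := eqW (cj Cfsg.Agent.CpAutCo3.MTw.wB (cw.getD n [])) (el n)

/-- every word is a product of two words conjugate to `A0` -/
def pr : List (ℕ × ℕ) := [(1, 2), (2, 2), (1, 1), (15, 26), (15, 24), (15, 25), (12, 22), (12, 23),
  (12, 21), (21, 25), (21, 26), (21, 24), (1, 14), (1, 12), (1, 13), (1, 17),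
  (1, 15), (1, 16), (12, 17), (12, 15), (12, 16), (1, 23), (1, 21), (1, 22),
  (1, 26), (1, 24), (1, 25)]

theorem chk_pr : ∀ n : Fin 27, (tyA (pr.getD n.1 (0, 0)).1 && tyA (pr.getD n.1 (0, 0)).2 &&
    eqW (el (pr.getD n.1 (0, 0)).1 ++ el (pr.getD n.1 (0, 0)).2) (el n.1)) = true := by decide +kernel

theorem chk_b : (tyB 3 && tyB 7 && tyA 1 && eqW (el 3 ++ el 7) (el 1)) = true := by decide +kernel

theorem of_tyA {n : ℕ} (h : tyA n = true) : (wd (cw.getD n []))⁻¹ * A0 * wd (cw.getD n []) = wd (el n) := by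
  have := wd_eq h
  rwa [wd_cj] at this

theorem of_tyB {n : ℕ} (h : tyB n = true) : (wd (cw.getD n []))⁻¹ * B0 * wd (cw.getD n []) = wd (el n) := by
  have := wd_eq h
  rwa [wd_cj] at this

theorem all_of_a {P : Spor.M12 → Prop} (hP : PCl 3 P) (hA : P A0) (n : Fin 27) : P (wd (el n.1)) := by
  have key : ∀ {i : ℕ}, tyA i = true → P (wd (el i)) := by
    intro i hi
    rw [← of_tyA hi]
    have := hP.conj (wd (cw.getD i []))⁻¹ hA
    rwa [inv_inv] at this
  have h1 := chk_pr n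
  rw [Bool.and_eq_true, Bool.and_eq_true] at h1
  obtain ⟨⟨h2, h3⟩, h4⟩ := h1
  rw [← wd_eq h4, wd_append]
  exact hP.mul isP_ABC (el_mem _) (el_mem _) (key h2) (key h3)

theorem a_of_b {P : Spor.M12 → Prop} (hP : PCl 3 P) (hB : P B0) : P A0 := by
  have key : ∀ {i : ℕ}, tyB i = true → P (wd (el i)) := by
    intro i hi
    rw [← of_tyB hi]
    have := hP.conj (wd (cw.getD i []))⁻¹ hB
    rwa [inv_inv] at this
  have h1 := chk_b
  rw [Bool.and_eq_true, Bool.and_eq_true, Bool.and_eq_true] at h1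
  obtain ⟨⟨⟨h2, h3⟩, h4⟩, h5⟩ := h1
  have h6 : P (wd (el 1)) := by
    rw [← wd_eq h5, wd_append]
    exact hP.mul isP_ABC (el_mem _) (el_mem _) (key h2) (key h3)
  rw [← of_tyA h4] at h6
  have := hP.conj (wd (cw.getD 1 [])) h6
  have e : wd (cw.getD 1 []) * ((wd (cw.getD 1 []))⁻¹ * A0 * wd (cw.getD 1 [])) * (wd (cw.getD 1 []))⁻¹ = A0 := by group
  rwa [e] at this

theorem fullP_m12 [hp : Fact (Nat.Prime 3)] : FullP 3 Spor.M12 := by
  obtain ⟨Q, hQ⟩ := exists_syl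
  have hA : ∀ {P : Spor.M12 → Prop}, PCl 3 P → P A0 → ∀ x, PEl 3 x → P x := by
    intro P hP h x hx
    refine SpTool.all_of_sylow hP Q (fun y hy => ?_) hx
    obtain ⟨n, rfl⟩ := hQ y hy
    exact all_of_a hP h n
  rintro P hP ⟨x, hx, hx1, hPx⟩
  obtain ⟨g, hg⟩ := SpTool.exists_conj Q hx
  obtain ⟨n, hn⟩ := hQ _ hg
  have hPn : P (wd (el n.1)) := by rw [hn]; exact hP.conj g hPx
  have hPA : P A0 := by
    have h2 : n.1 = 0 ∨ tyA n.1 = true ∨ tyB n.1 = true := chk_conj n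
    rcases h2 with h | h | h
    · exfalso
      have h7 : wd (el n.1) = 1 := by
        rw [h]
        exact wd_eq (l' := []) (by decide +kernel)
      rw [h7] at hn
      exact hx1 (conj_eq_one_iff.1 hn.symm)
    · rw [← of_tyA h] at hPn
      have := hP.conj (wd (cw.getD n.1 [])) hPn
      have e : wd (cw.getD n.1 []) * ((wd (cw.getD n.1 []))⁻¹ * A0 * wd (cw.getD n.1 [])) *
        (wd (cw.getD n.1 []))⁻¹ = A0 := by group
      rwa [e] at this
    · refine a_of_b hP ?_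
      rw [← of_tyB h] at hPn
      have := hP.conj (wd (cw.getD n.1 [])) hPn
      have e : wd (cw.getD n.1 []) * ((wd (cw.getD n.1 []))⁻¹ * B0 * wd (cw.getD n.1 [])) *
        (wd (cw.getD n.1 []))⁻¹ = B0 := by group
      rwa [e] at this
  exact hA hP hPA

theorem fullP_m12_three [hp : Fact (Nat.Prime 3)] {G : Type u} [Group G] (hG : Spor.IsoM12 G) : FullP 3 G := by
  obtain ⟨e⟩ := hG
  exact FullP.of_mulEquiv e.symm fullP_m12

theorem fullP_m24 [hp : Fact (Nat.Prime 3)] : FullP 3 Cfsg.M24 := by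
  have hc : Nat.card Cfsg.M24 = 244823040 := S0364.result
  have hf : Finite Cfsg.M24 := Nat.finite_of_card_ne_zero (by rw [hc]; norm_num)
  have hle : Spor.M12 ≤ Cfsg.M24 := inf_le_left
  refine SpTool.fullP_of_hom (Subgroup.inclusion hle) ?_ fullP_m12
  have h1 : Nat.card (Subgroup.inclusion hle).range = 95040 := by
    rw [← MTwelveType.SylowModel.card_M12]
    exact (Nat.card_congr (MonoidHom.ofInjective (Subgroup.inclusion_injective hle)).toEquiv).symm
  have h2 := (Subgroup.inclusion hle).range.card_mul_index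
  rw [h1, hc] at h2
  have h3 : (Subgroup.inclusion hle).range.index = 2576 := by omega
  rw [h3]
  norm_num

theorem fullP_m24_three [hp : Fact (Nat.Prime 3)] {G : Type u} [Group G] (hG : Spor.IsoM24 G) : FullP 3 G := by
  obtain ⟨e⟩ := hG
  exact FullP.of_mulEquiv e.symm fullP_m24

theorem fullP_j4_three [hp : Fact (Nat.Prime 3)] {G : Type u} [Group G] (hG : Spor.IsoJ4 G) : FullP 3 G := by
  obtain ⟨e⟩ := hG
  refine FullP.of_mulEquiv e.symm ?_
  obtain ⟨e'⟩ := S1711.result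
  have hc : Nat.card Cfsg.M24 = 244823040 := S0364.result
  have hf : Finite Cfsg.M24 := Nat.finite_of_card_ne_zero (by rw [hc]; norm_num)
  have hJ : Nat.card Cfsg.Spor.J4 = 86775571046077562880 :=
    (Cfsg.Agent.J4.Simple.isJ4_of_le Cfsg.Agent.J4.Upper.card_J4_le.1 Cfsg.Agent.J4.Dvd.dvd).2
  have := Finite.of_equiv _ e'.toEquiv.symm
  have h1 := Nat.card_congr e'.toEquiv
  rw [hc] at h1
  have h2 := Subgroup.card_mul_index (((Subgroup.closure ({Cfsg.Spor.J4.x, Cfsg.Spor.J4.y} : Set (FreeGroup Cfsg.Spor.J4.Gen))).map (PresentedGroup.mk (Cfsg.Spor.coxRelators Cfsg.Spor.J4.edges ∪ {r | r ∈ Cfsg.Spor.J4.extra}))))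
  rw [h1, hJ] at h2
  exact SpLie.fullP_of_index _ (n := 354442012672) (by omega) (by norm_num) (FullP.of_mulEquiv e'.symm fullP_m24)

end Cfsg.Agent.H792.SpMat
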