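import Cfsg.Agent.H792.Sp.ConwayFive
import Cfsg.Agent.H792.Sp.JTwo

/-!
# `NoT p G` for `J₂` (3), `HS`, `McL`, `Co₂`, `Co₃` (5) (helper792)

`noTwo_of_noT` : if `N_G(S)` controls fusion then `NoT` is `NoTwo` (no `N_G(S)`-invariant subgroup of `S` of order `p ^ 2`).
-/

set_option autoImplicit false

namespace Cfsg.Agent.H792.SpCube

open Subgroup Cfsg Cfsg.Agent.H749

universe u

theorem noTwo_of_noT {p : ℕ} {G : Type*} [Group G] (h : H794.NFus p G) (hT : NoT p G) : NoTwo p G := by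
  intro S T hTS hn hc
  refine hT S T ⟨hTS, fun x hx g hg => ?_⟩ hc
  obtain ⟨n, hnS, hnx⟩ := h S (zpowers x) (by rw [zpowers_le]; exact hTS hx) g (by
    rintro _ ⟨k, rfl⟩
    show g * x ^ k * g⁻¹ ∈ (S : Subgroup G)
    rw [← conj_zpow]
    exact zpow_mem hg k)
  rw [← hnx x (mem_zpowers x)]
  exact hn n hnS x hx

theorem noT_congr {p : ℕ} [Fact p.Prime] {G H : Type*} [Group G] [Group H] [Finite H] (e : G ≃* H) (h : NoT p H) :
    NoT p G := by
  have : Finite G := Finite.of_equiv _ e.symm.toEquiv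
  exact NoT.of_mulEquiv e.symm h

theorem noT_j2_of_fus {G : Type u} [Group G] [Finite G] [hp : Fact (Nat.Prime 3)] {z w : G} (h : J2Type.Base.Fus z w) :
    NoT 3 G := by
  obtain ⟨f, U, V, H0, F⟩ := J2Type.CentU.main h
  obtain ⟨d, hd, hdV, hdH⟩ := J2Type.ThreeA.exists_d h F
  obtain ⟨P, hPd, hfP, hdP⟩ := J2Type.ThreeF.exists_sylow h F hd hdH
  obtain ⟨⟨x, y, hxy⟩, hZ, hcomm⟩ := J2Type.ThreeF.structure_P h F hd hdH hPd hfP hdP
  obtain ⟨-, hcl⟩ := J2Type.ThreeF.card_normalizer h F hd hdV hdH hPd hfP hdP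
  have h27 : Nat.card (P : Subgroup G) = 3 ^ 3 := J2Type.ThreeF.card_sylow_three (J2Type.Order.card_of_fus h) P
  refine noT_of_class P (by rw [h27]; norm_num) (zpowers d) (by rw [Nat.card_zpowers, hd]; norm_num)
    (fun a ha haZ b hb hbZ => (hcl a ha haZ).symm.trans (hcl b hb hbZ)) ?_
  intro T hT hc
  obtain ⟨e, he, he1, hec⟩ := H280.StrongFusion.exists_mem_center P hT (by
    rintro rfl
    rw [card_bot] at hc
    norm_num at hc)
  have h1 : e ∈ zpowers d := hZ e (hT.1 he) fun s hs => (hec s hs).symm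
  have h2 : zpowers e = zpowers d := by
    refine Subgroup.eq_of_le_of_card_ge (zpowers_le.2 h1) ?_
    have h3 : Nat.card (zpowers e) ∣ 3 := by
      rw [← hd, ← Nat.card_zpowers]
      exact Subgroup.card_dvd_of_le (zpowers_le.2 h1)
    rcases (Nat.dvd_prime Nat.prime_three).1 h3 with h4 | h4
    · rw [Subgroup.card_eq_one, zpowers_eq_bot] at h4
      exact absurd h4 he1
    · rw [h4, Nat.card_zpowers, hd]
  rw [← h2]
  exact zpowers_le.2 he

theorem noT_j2_three [hp : Fact (Nat.Prime 3)] {G : Type u} [Group G] (hG : Spor.IsoJ2 G) : NoT 3 G := by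
  obtain ⟨e⟩ := hG
  have hfin : Finite Spor.J2 := Nat.finite_of_card_ne_zero (by rw [Cfsg.Agent.S1619.result.2.2.2]; norm_num)
  obtain ⟨t, w, Q, v, ρ, D⟩ := KFacts.J2.Basic.exists_dat
  exact noT_congr e (noT_j2_of_fus D.F)

end Cfsg.Agent.H792.SpCube

namespace Cfsg.Agent.H792.SpU35

open Subgroup Cfsg Cfsg.Agent.H749 Cfsg.Agent.H792.SpCube Cfsg.Agent.SporStruct.U35K50

universe u

theorem noT_of_psu [hp : Fact (Nat.Prime 5)] {G : Type*} [Group G] [Finite G] {F : Type} [Field F] [Fintype F]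
    (hF : Fintype.card F = 25) (f : Cfsg.PSU 3 F 5 →* G) (hf : Function.Injective f) (h4 : ¬ 5 ^ 4 ∣ Nat.card G) :
    NoT 5 G := by
  obtain ⟨e⟩ := Cfsg.Agent.SporStruct.U35Iso.psu35_iso F hF
  have hinj : Function.Injective (f.comp e.symm.toMonoidHom) := by
    rw [MonoidHom.coe_comp]
    exact hf.comp e.symm.injective
  refine NoT.of_injective (f.comp e.symm.toMonoidHom) hinj ?_ noT
  intro h
  apply h4
  rw [← (f.comp e.symm.toMonoidHom).range.card_mul_index]
  have h1 : Nat.card (f.comp e.symm.toMonoidHom).range = 126000 := by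
    rw [← card_K50]
    exact (Nat.card_congr (MonoidHom.ofInjective hinj).toEquiv).symm
  rw [h1]
  obtain ⟨k, hk⟩ := h
  rw [hk]
  exact ⟨1008 * k, by ring⟩

theorem Tri.noT {v w x : leechLattice} (T : Tri v w x) [hp : Fact (Nat.Prime 5)] (K : Subgroup (Equiv.Perm leechLattice))
    [Finite K] (h4 : ¬ 5 ^ 4 ∣ Nat.card K)
    (hK : ∀ g : Co0, g • v = v → g • w = w → g • x = x → (g : Equiv.Perm leechLattice) ∈ K) : NoT 5 K := by
  obtain ⟨F, _, _, hF⟩ := exists_field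
  obtain ⟨e⟩ := T.exists_hom hF
  let W := MulAction.stabilizer Co0 v ⊓ MulAction.stabilizer Co0 w ⊓ MulAction.stabilizer Co0 x
  let f : W →* K := (Co0.subtype.comp W.subtype).codRestrict K fun g => hK g.1 g.2.1.1 g.2.1.2 g.2.2
  have hf : Function.Injective f := by
    intro a b h
    have h1 := congrArg Subtype.val h
    exact Subtype.ext (Subtype.ext h1)
  refine noT_of_psu hF (f.comp e.toMonoidHom) ?_ h4
  rw [MonoidHom.coe_comp]
  exact hf.comp e.injective

theorem noT_hs_five [hp : Fact (Nat.Prime 5)] {G : Type u} [Group G] (hG : Spor.IsoHS G) : NoT 5 G := by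
  obtain ⟨e⟩ := hG
  have : Finite Spor.HS := Nat.finite_of_card_ne_zero (by rw [card_HS]; norm_num)
  obtain ⟨x, T⟩ := exists_tri sq_V hs_pair.1 hs_pair.2
  exact noT_congr e (T.noT Spor.HS (by rw [card_HS]; norm_num) fun g h1 h2 _ => mem_HS h1 h2)

theorem noT_co3_five [hp : Fact (Nat.Prime 5)] {G : Type u} [Group G] (hG : Spor.IsoCo3 G) : NoT 5 G := by
  obtain ⟨e⟩ := hG
  have : Finite Spor.Co3 := Nat.finite_of_card_ne_zero (by rw [card_Co3]; norm_num)
  obtain ⟨x, T⟩ := exists_tri sq_V hs_pair.1 hs_pair.2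
  exact noT_congr e (T.noT Spor.Co3 (by rw [card_Co3]; norm_num) fun g h1 _ _ => ⟨g.2, h1⟩)

theorem noT_mcl_five [hp : Fact (Nat.Prime 5)] {G : Type u} [Group G] (hG : Spor.IsoMcL G) : NoT 5 G := by
  obtain ⟨e⟩ := hG
  have : Finite Spor.McL := Nat.finite_of_card_ne_zero (by rw [card_McL]; norm_num)
  obtain ⟨x, T⟩ := exists_tri_mcl
  exact noT_congr e (T.noT Spor.McL (by rw [card_McL]; norm_num) fun g _ h1 h2 => ⟨⟨g.2, h1⟩, h2⟩)

theorem noT_co2_five [hp : Fact (Nat.Prime 5)] {G : Type u} [Group G] (hG : Spor.IsoCo2 G) : NoT 5 G := by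
  obtain ⟨e⟩ := hG
  have : Finite Spor.Co2 := Nat.finite_of_card_ne_zero (by rw [card_Co2]; norm_num)
  obtain ⟨x, T⟩ := exists_tri_mcl
  exact noT_congr e (T.noT Spor.Co2 (by rw [card_Co2]; norm_num) fun g _ _ h2 => ⟨g.2, h2⟩)

end Cfsg.Agent.H792.SpU35
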