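import Cfsg.Agent.NotCT.Orders
import Cfsg.Agent.H545.PQ.ONan
import Cfsg.Agent.H792.SpTool
import Cfsg.Agent.H792.Sp.FiONLy
import Cfsg.Agent.H792.Sp.Mathieu
import Cfsg.Agent.H792.Sp.JTwo
import Cfsg.Agent.H792.Sp.ConwayFive
import Cfsg.Agent.H792.Sp.NoTRows
import Cfsg.Agent.H792.Sp.JThree
import Cfsg.Agent.H812.FullCo1
import Cfsg.Agent.H812.FullSuz
import Cfsg.Agent.H812.FullLy
import Cfsg.Agent.H752.CoOneFive
import Cfsg.Agent.H526.SpMcL
import Cfsg.Agent.H526.Co3Three
import Cfsg.Agent.H843.FullFiB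
import Cfsg.Agent.H843.FullFiD
import Cfsg.Agent.H843.FullB3
import Cfsg.Agent.H502.ThThree
import Cfsg.Agent.H502.ThFiveP
import Cfsg.Agent.H415.HeFiRows
import Cfsg.Agent.H761.RuFull
import Cfsg.Agent.H761.TitsFull
import Cfsg.Agent.H569.HNThree
import Cfsg.Agent.H845.JFourEleven
import Cfsg.Agent.H794.MonThirteen

/-!
# Strongly closed subgroups in the sporadic groups and the Tits group, `p` odd (helper792)

`spor_rows` : for a sporadic group (or the Tits group) `G` and an odd prime `p`, given the five rows `(HN, 5)`,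
`(B, 5)`, `(M, 3)`, `(M, 5)`, `(M, 7)`:

* `FullP p G`, or
* `G` is one of `J₂` (`p = 3`), `Co₂`, `Co₃`, `HS`, `McL` (`p = 5`), `J₄` (`p = 11`), `M` (`p = 13`), and
  `FullP p G ∨ NFus p G`; or `J₃`, `p = 3` and `NFus 3 G`; or the Sylow `p`-subgroups are abelian.

`spor_full_or_nfus` : `FullP p G ∨ NFus p G`.
-/

set_option autoImplicit false

namespace Cfsg.Agent.H792.SpAll

open Subgroup Cfsg Cfsg.Agent.H749

universe u

/-- the primes dividing the orders of the sporadic groups -/
def primes : List ℕ := [2, 3, 5, 7, 11, 13, 17, 19, 23, 29, 31, 37, 41, 43, 47, 59, 67, 71]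

theorem primes_prime : ∀ q ∈ primes, q.Prime := by
  intro q hq
  simp only [primes, List.mem_cons, List.not_mem_nil, or_false] at hq
  rcases hq with rfl | rfl | rfl | rfl | rfl | rfl | rfl | rfl | rfl | rfl | rfl | rfl | rfl | rfl | rfl | rfl | rfl | rfl <;>
    norm_num

theorem mem_primes {p N : ℕ} (hp : p.Prime) (hN : N ∣ primes.prod ^ 46) (h : p ∣ N) : p ∈ primes := by
  have h1 : p ∣ primes.prod := hp.dvd_of_dvd_pow (h.trans hN)
  obtain ⟨q, hq, hpq⟩ := (hp.prime.dvd_prod_iff).1 h1
  rwa [(Nat.prime_dvd_prime_iff_eq hp (primes_prime q hq)).1 hpq]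

/-- the primes whose cube divides `N` -/
theorem mem_of_cube {p N : ℕ} (hp : p.Prime) (hN : (primes.prod ^ 46 % N == 0) = true) (T : List ℕ)
    (hT : (primes.all fun q => T.contains q || !(N % q ^ 3 == 0)) = true) (h : p ^ 3 ∣ N) : p ∈ T := by
  have h1 := mem_primes hp (Nat.dvd_of_mod_eq_zero (by simpa using hN)) ((dvd_pow_self p (by norm_num)).trans h)
  have h2 := (List.all_eq_true.1 hT) p h1
  rw [Bool.or_eq_true] at h2
  rcases h2 with h2 | h2
  · simpa using h2
  · have h3 : N % p ^ 3 = 0 := Nat.mod_eq_zero_of_dvd h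
    rw [h3] at h2
    exact absurd h2 (by decide)

/-- Sylow subgroups of order at most `p²` are abelian -/
theorem comm_of_card {p : ℕ} [hp : Fact p.Prime] {G : Type*} [Group G] [Finite G] (h : ¬ p ^ 3 ∣ Nat.card G)
    (S : Sylow p G) : IsMulCommutative (S : Subgroup G) := by
  obtain ⟨n, hn⟩ := IsPGroup.iff_card.1 S.isPGroup'
  have hn2 : n ≤ 2 := by
    by_contra hlt
    exact h ((pow_dvd_pow p (by omega)).trans (hn ▸ card_subgroup_dvd_card (S : Subgroup G)))
  interval_cases n
  · have : Subsingleton (S : Subgroup G) := (Nat.card_eq_one_iff_unique.1 (by rw [hn, pow_zero])).1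
    exact ⟨⟨fun a b => Subsingleton.elim _ _⟩⟩
  · rw [pow_one] at hn
    have := isCyclic_of_prime_card hn
    exact IsCyclic.isMulCommutative
  · exact IsPGroup.isMulCommutative_of_card_eq_prime_sq hn

/-- the rows with nonabelian Sylow subgroups of order `p³` in which `FullP` need not hold -/
def Cube (p : ℕ) (G : Type*) [Group G] : Prop :=
  (p = 3 ∧ Spor.IsoJ2 G) ∨ (p = 5 ∧ (Spor.IsoCo2 G ∨ Spor.IsoCo3 G ∨ Spor.IsoHS G ∨ Spor.IsoMcL G)) ∨
    (p = 11 ∧ Spor.IsoJ4 G) ∨ (p = 13 ∧ Spor.IsoM G)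

/-- the outcome -/
def Out (p : ℕ) (G : Type*) [Group G] : Prop :=
  FullP p G ∨ (Cube p G ∧ (FullP p G ∨ H794.NFus p G)) ∨ (p = 3 ∧ Spor.IsoJ3 G ∧ H794.NFus p G) ∨
    (∀ S : Sylow p G, IsMulCommutative (S : Subgroup G))

theorem Out.full {p : ℕ} {G : Type*} [Group G] (h : FullP p G) : Out p G := Or.inl h

theorem Out.small {p : ℕ} [Fact p.Prime] {G : Type*} [Group G] [Finite G] {N : ℕ} (hN : Nat.card G = N)
    (h : ¬ p ^ 3 ∣ N) : Out p G := Or.inr (Or.inr (Or.inr (comm_of_card (by rwa [hN]))))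

/-- the case distinction over the primes whose cube divides the order -/
theorem split {p : ℕ} [hp : Fact p.Prime] {G : Type*} [Group G] [Finite G] {N : ℕ} (hc : Nat.card G = N) (T : List ℕ)
    (hN : (primes.prod ^ 46 % N == 0) = true)
    (hT : (primes.all fun q => T.contains q || !(N % q ^ 3 == 0)) = true) (h : p ∈ T → Out p G) : Out p G := by
  by_cases h1 : p ^ 3 ∣ N
  · exact h (mem_of_cube hp.out hN T hT h1)
  · exact Out.small hc h1

section
variable {p : ℕ} [hp : Fact p.Prime] {G : Type u} [Group G] [Finite G]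

theorem row_m11 (hp2 : p ≠ 2) (h : Spor.IsoM11 G) : Out p G := by
  refine split (NotCT.Orders.m11 h) [2] (by decide +kernel) (by decide +kernel) fun hT => ?_
  simp only [List.mem_cons, List.not_mem_nil, or_false] at hT
  exact absurd hT hp2

theorem row_m12 (hp2 : p ≠ 2) (h : Spor.IsoM12 G) : Out p G := by
  refine split (NotCT.Orders.m12 h) [2, 3] (by decide +kernel) (by decide +kernel) fun hT => ?_
  simp only [List.mem_cons, List.not_mem_nil, or_false] at hT
  rcases hT with rfl | rfl
  · exact absurd rfl hp2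
  · exact Out.full (SpMat.fullP_m12_three h)

theorem row_m22 (hp2 : p ≠ 2) (h : Spor.IsoM22 G) : Out p G := by
  refine split (NotCT.Orders.m22 h) [2] (by decide +kernel) (by decide +kernel) fun hT => ?_
  simp only [List.mem_cons, List.not_mem_nil, or_false] at hT
  exact absurd hT hp2

theorem row_m23 (hp2 : p ≠ 2) (h : Spor.IsoM23 G) : Out p G := by
  refine split (NotCT.Orders.m23 h) [2] (by decide +kernel) (by decide +kernel) fun hT => ?_
  simp only [List.mem_cons, List.not_mem_nil, or_false] at hT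
  exact absurd hT hp2

theorem row_m24 (hp2 : p ≠ 2) (h : Spor.IsoM24 G) : Out p G := by
  refine split (NotCT.Orders.m24 h) [2, 3] (by decide +kernel) (by decide +kernel) fun hT => ?_
  simp only [List.mem_cons, List.not_mem_nil, or_false] at hT
  rcases hT with rfl | rfl
  · exact absurd rfl hp2
  · exact Out.full (SpMat.fullP_m24_three h)

theorem row_j1 (hp2 : p ≠ 2) (h : Spor.IsoJ1 G) : Out p G := by
  refine split (NotCT.Orders.j1 h) [2] (by decide +kernel) (by decide +kernel) fun hT => ?_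
  simp only [List.mem_cons, List.not_mem_nil, or_false] at hT
  exact absurd hT hp2

theorem row_j2 (hp2 : p ≠ 2) (h : Spor.IsoJ2 G) : Out p G := by
  refine split (NotCT.Orders.j2 h) [2, 3] (by decide +kernel) (by decide +kernel) fun hT => ?_
  simp only [List.mem_cons, List.not_mem_nil, or_false] at hT
  rcases hT with rfl | rfl
  · exact absurd rfl hp2
  · exact Or.inr (Or.inl ⟨Or.inl ⟨rfl, h⟩, SpCube.row_j2_three h⟩)

theorem row_j3 (hp2 : p ≠ 2) (h : Spor.IsoJ3 G) : Out p G := by
  refine split (NotCT.Orders.j3 h) [2, 3] (by decide +kernel) (by decide +kernel) fun hT => ?_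
  simp only [List.mem_cons, List.not_mem_nil, or_false] at hT
  rcases hT with rfl | rfl
  · exact absurd rfl hp2
  · exact Or.inr (Or.inr (Or.inl ⟨rfl, h, SpJ3.nfus_j3_three h⟩))

theorem row_j4 (hp2 : p ≠ 2) (h : Spor.IsoJ4 G) : Out p G := by
  refine split (NotCT.Orders.j4 h) [2, 3, 11] (by decide +kernel) (by decide +kernel) fun hT => ?_
  simp only [List.mem_cons, List.not_mem_nil, or_false] at hT
  rcases hT with rfl | rfl | rfl
  · exact absurd rfl hp2
  · exact Out.full (SpMat.fullP_j4_three h)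
  · exact Or.inr (Or.inl ⟨Or.inr (Or.inr (Or.inl ⟨rfl, h⟩)), H845.JFourEleven.full_or_nfus_j4_eleven h⟩)

theorem row_co1 (hp2 : p ≠ 2) (h : Spor.IsoCo1 G) : Out p G := by
  refine split (NotCT.Orders.co1 h) [2, 3, 5] (by decide +kernel) (by decide +kernel) fun hT => ?_
  simp only [List.mem_cons, List.not_mem_nil, or_false] at hT
  rcases hT with rfl | rfl | rfl
  · exact absurd rfl hp2
  · exact Out.full (H812.FullCo1.fullP_co1_three h)
  · exact Out.full (H752.CoOneFive.fullP_co1_five h)

theorem row_co2 (hp2 : p ≠ 2) (h : Spor.IsoCo2 G) : Out p G := by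
  refine split (NotCT.Orders.co2 h) [2, 3, 5] (by decide +kernel) (by decide +kernel) fun hT => ?_
  simp only [List.mem_cons, List.not_mem_nil, or_false] at hT
  rcases hT with rfl | rfl | rfl
  · exact absurd rfl hp2
  · exact Out.full (H526.SpMcL.fullP_co2_three h)
  · exact Or.inr (Or.inl ⟨Or.inr (Or.inl ⟨rfl, Or.inl h⟩), SpU35.row_co2_five h⟩)

theorem row_co3 (hp2 : p ≠ 2) (h : Spor.IsoCo3 G) : Out p G := by
  refine split (NotCT.Orders.co3 h) [2, 3, 5] (by decide +kernel) (by decide +kernel) fun hT => ?_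
  simp only [List.mem_cons, List.not_mem_nil, or_false] at hT
  rcases hT with rfl | rfl | rfl
  · exact absurd rfl hp2
  · exact Out.full (H526.Co3Three.fullP_co3_three h)
  · exact Or.inr (Or.inl ⟨Or.inr (Or.inl ⟨rfl, Or.inr (Or.inl h)⟩), SpU35.row_co3_five h⟩)

theorem row_mcl (hp2 : p ≠ 2) (h : Spor.IsoMcL G) : Out p G := by
  refine split (NotCT.Orders.mcl h) [2, 3, 5] (by decide +kernel) (by decide +kernel) fun hT => ?_
  simp only [List.mem_cons, List.not_mem_nil, or_false] at hT
  rcases hT with rfl | rfl | rfl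
  · exact absurd rfl hp2
  · exact Out.full (H526.SpMcL.fullP_mcl_three h)
  · exact Or.inr (Or.inl ⟨Or.inr (Or.inl ⟨rfl, Or.inr (Or.inr (Or.inr h))⟩), SpU35.row_mcl_five h⟩)

theorem row_hs (hp2 : p ≠ 2) (h : Spor.IsoHS G) : Out p G := by
  refine split (NotCT.Orders.hs h) [2, 5] (by decide +kernel) (by decide +kernel) fun hT => ?_
  simp only [List.mem_cons, List.not_mem_nil, or_false] at hT
  rcases hT with rfl | rfl
  · exact absurd rfl hp2
  · exact Or.inr (Or.inl ⟨Or.inr (Or.inl ⟨rfl, Or.inr (Or.inr (Or.inl h))⟩), SpU35.row_hs_five h⟩)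

theorem row_suz (hp2 : p ≠ 2) (h : Spor.IsoSuz G) : Out p G := by
  refine split (NotCT.Orders.suz h) [2, 3] (by decide +kernel) (by decide +kernel) fun hT => ?_
  simp only [List.mem_cons, List.not_mem_nil, or_false] at hT
  rcases hT with rfl | rfl
  · exact absurd rfl hp2
  · exact Out.full (H812.FullSuz.fullP_suz_three h)

theorem row_he (hp2 : p ≠ 2) (h : Spor.IsoHe G) : Out p G := by
  refine split (NotCT.Orders.he h) [2, 3, 7] (by decide +kernel) (by decide +kernel) fun hT => ?_
  simp only [List.mem_cons, List.not_mem_nil, or_false] at hT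
  rcases hT with rfl | rfl | rfl
  · exact absurd rfl hp2
  · exact Out.full (H415.HeFiRows.fullP_he_three h)
  · exact Out.full (H415.HeFiRows.fullP_he_seven h)

theorem row_ru (hp2 : p ≠ 2) (h : Spor.IsoRu G) : Out p G := by
  refine split (NotCT.Orders.ru h) [2, 3, 5] (by decide +kernel) (by decide +kernel) fun hT => ?_
  simp only [List.mem_cons, List.not_mem_nil, or_false] at hT
  rcases hT with rfl | rfl | rfl
  · exact absurd rfl hp2
  · exact Out.full (H761.RuFull.fullP_ru_three h)
  · exact Out.full (H761.RuFull.fullP_ru_five h)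

theorem row_on (hp2 : p ≠ 2) (h : Spor.IsoON G) : Out p G := by
  refine split (NotCT.Orders.on h) [2, 3, 7] (by decide +kernel) (by decide +kernel) fun hT => ?_
  simp only [List.mem_cons, List.not_mem_nil, or_false] at hT
  rcases hT with rfl | rfl | rfl
  · exact absurd rfl hp2
  · refine Or.inr (Or.inr (Or.inr fun S => ?_))
    obtain ⟨e⟩ := h
    let S1 : Sylow 3 Spor.ON := S.mapSurjective (f := e.toMonoidHom) e.surjective
    have h1 := H545.PQ.ONan.three_abelian S1
    refine ⟨⟨fun x y => Subtype.ext (e.injective ?_)⟩⟩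
    have h2 := h1.is_comm.comm ⟨e x, ⟨x, x.2, rfl⟩⟩ ⟨e y, ⟨y, y.2, rfl⟩⟩
    have h3 := congrArg Subtype.val h2
    show e ((x : G) * y) = e ((y : G) * x)
    rw [map_mul, map_mul]
    exact h3
  · exact Out.full (SpLie.fullP_on_seven h)

theorem row_ly (hp2 : p ≠ 2) (h : Spor.IsoLy G) : Out p G := by
  refine split (NotCT.Orders.ly h) [2, 3, 5] (by decide +kernel) (by decide +kernel) fun hT => ?_
  simp only [List.mem_cons, List.not_mem_nil, or_false] at hT
  rcases hT with rfl | rfl | rfl
  · exact absurd rfl hp2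
  · exact Out.full (H812.FullLy.fullP_ly_three h)
  · exact Out.full (SpLie.fullP_ly_five h)

theorem row_fi22 (hp2 : p ≠ 2) (h : Spor.IsoFi22 G) : Out p G := by
  refine split (NotCT.Orders.fi22 h) [2, 3] (by decide +kernel) (by decide +kernel) fun hT => ?_
  simp only [List.mem_cons, List.not_mem_nil, or_false] at hT
  rcases hT with rfl | rfl
  · exact absurd rfl hp2
  · exact Out.full (SpLie.fullP_fi22_three h)

theorem fullP_fi22 : FullP 3 Spor.Fi22 := by
  have : Fact (Nat.Prime 3) := ⟨Nat.prime_three⟩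
  exact SpLie.fullP_fi22_three ⟨MulEquiv.refl _⟩

theorem fullP_fi23 : FullP 3 Spor.Fi23 := by
  have : Finite Spor.Fi23 := Nat.finite_of_card_ne_zero (by rw [NotCT.Orders.fi23 ⟨MulEquiv.refl _⟩]; norm_num)
  exact H843.FullFiD.fullP_fi23_three ⟨MulEquiv.refl _⟩ fullP_fi22

theorem row_fi23 (hp2 : p ≠ 2) (h : Spor.IsoFi23 G) : Out p G := by
  refine split (NotCT.Orders.fi23 h) [2, 3] (by decide +kernel) (by decide +kernel) fun hT => ?_
  simp only [List.mem_cons, List.not_mem_nil, or_false] at hT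
  rcases hT with rfl | rfl
  · exact absurd rfl hp2
  · exact Out.full (H843.FullFiD.fullP_fi23_three h fullP_fi22)

theorem row_fi24 (hp2 : p ≠ 2) (h : Spor.IsoFi24' G) : Out p G := by
  refine split (NotCT.Orders.fi24 h) [2, 3, 7] (by decide +kernel) (by decide +kernel) fun hT => ?_
  simp only [List.mem_cons, List.not_mem_nil, or_false] at hT
  rcases hT with rfl | rfl | rfl
  · exact absurd rfl hp2
  · exact Out.full (H843.FullFi.fullP_fi24p_three h fullP_fi23)
  · exact Out.full (H415.HeFiRows.fullP_fi24p_seven h)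

theorem row_th (hp2 : p ≠ 2) (h : Spor.IsoTh G) : Out p G := by
  refine split (NotCT.Orders.th h) [2, 3, 5] (by decide +kernel) (by decide +kernel) fun hT => ?_
  simp only [List.mem_cons, List.not_mem_nil, or_false] at hT
  rcases hT with rfl | rfl | rfl
  · exact absurd rfl hp2
  · exact Out.full (H502.ThThree.fullP_th_three h)
  · exact Out.full (H502.ThFiveP.fullP_th_five h)

theorem row_hn (hp2 : p ≠ 2) (h : Spor.IsoHN G) (h5 : FullP 5 G) : Out p G := by
  refine split (NotCT.Orders.hn h) [2, 3, 5] (by decide +kernel) (by decide +kernel) fun hT => ?_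
  simp only [List.mem_cons, List.not_mem_nil, or_false] at hT
  rcases hT with rfl | rfl | rfl
  · exact absurd rfl hp2
  · exact Out.full (H569.HNThree.fullP_hn_three h)
  · exact Out.full h5

theorem row_b (hp2 : p ≠ 2) (h : Spor.IsoB G) (h5 : FullP 5 G) : Out p G := by
  refine split (NotCT.Orders.b h) [2, 3, 5] (by decide +kernel) (by decide +kernel) fun hT => ?_
  simp only [List.mem_cons, List.not_mem_nil, or_false] at hT
  rcases hT with rfl | rfl | rfl
  · exact absurd rfl hp2
  · exact Out.full (H843.FullB3.fullP_b_three h fullP_fi23)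
  · exact Out.full h5

theorem row_m (hp2 : p ≠ 2) (h : Spor.IsoM G) (h3 : FullP 3 G) (h5 : FullP 5 G) (h7 : FullP 7 G) : Out p G := by
  refine split (NotCT.Orders.m h) [2, 3, 5, 7, 13] (by decide +kernel) (by decide +kernel) fun hT => ?_
  simp only [List.mem_cons, List.not_mem_nil, or_false] at hT
  rcases hT with rfl | rfl | rfl | rfl | rfl
  · exact absurd rfl hp2
  · exact Out.full h3
  · exact Out.full h5
  · exact Out.full h7
  · exact Or.inr (Or.inl ⟨Or.inr (Or.inr (Or.inr ⟨rfl, h⟩)), H794.MonThirteen.full_or_nfus_m_thirteen h⟩)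

theorem row_tits (hp2 : p ≠ 2) (h : Lie.IsoTits G) : Out p G := by
  refine split (NotCT.Orders.tits h) [2, 3] (by decide +kernel) (by decide +kernel) fun hT => ?_
  simp only [List.mem_cons, List.not_mem_nil, or_false] at hT
  rcases hT with rfl | rfl
  · exact absurd rfl hp2
  · exact Out.full (H761.TitsFull.fullP_tits_three h)

/-- the rows still to be proved -/
structure Pend (G : Type u) [Group G] : Prop where
  hn5 : Spor.IsoHN G → FullP 5 G
  b5 : Spor.IsoB G → FullP 5 G
  m3 : Spor.IsoM G → FullP 3 G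
  m5 : Spor.IsoM G → FullP 5 G
  m7 : Spor.IsoM G → FullP 7 G

/-- **the sporadic rows** -/
theorem spor_rows (hG : IsSporadicGroup G) (hp2 : p ≠ 2) (H : Pend G) : Out p G := by
  rcases hG with h | h | h | h | h | h | h | h | h | h | h | h | h | h | h | h | h | h | h | h | h | h | h | h | h | h
  · exact row_m11 hp2 h
  · exact row_m12 hp2 h
  · exact row_m22 hp2 h
  · exact row_m23 hp2 h
  · exact row_m24 hp2 h
  · exact row_j1 hp2 h
  · exact row_j2 hp2 h
  · exact row_j3 hp2 h
  · exact row_j4 hp2 h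
  · exact row_co1 hp2 h
  · exact row_co2 hp2 h
  · exact row_co3 hp2 h
  · exact row_mcl hp2 h
  · exact row_hs hp2 h
  · exact row_suz hp2 h
  · exact row_he hp2 h
  · exact row_ru hp2 h
  · exact row_on hp2 h
  · exact row_ly hp2 h
  · exact row_fi22 hp2 h
  · exact row_fi23 hp2 h
  · exact row_fi24 hp2 h
  · exact row_hn hp2 h (H.hn5 h)
  · exact row_th hp2 h
  · exact row_b hp2 h (H.b5 h)
  · exact row_m hp2 h (H.m3 h) (H.m5 h) (H.m7 h)

theorem Out.full_or_nfus (h : Out p G) : FullP p G ∨ H794.NFus p G := by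
  rcases h with h | ⟨-, h⟩ | ⟨-, -, h⟩ | h
  · exact Or.inl h
  · exact h
  · exact Or.inr h
  · exact Or.inr (H794.NFus.of_comm h)

/-- **the sporadic groups** -/
theorem spor_full_or_nfus (hG : IsSporadicGroup G) (hp2 : p ≠ 2) (H : Pend G) : FullP p G ∨ H794.NFus p G :=
  (spor_rows hG hp2 H).full_or_nfus

/-- **the Tits group** -/
theorem tits_full_or_nfus (h : Lie.IsoTits G) (hp2 : p ≠ 2) : FullP p G ∨ H794.NFus p G :=
  (row_tits hp2 h).full_or_nfus

/-- the rows `Cube` have no strongly closed subgroups of order `p²` in Sylow subgroups of order `p³` (except perhaps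
`(M, 13)`) -/
theorem Cube.noT (h : Cube p G) : SpCube.NoT p G ∨ (p = 13 ∧ Spor.IsoM G) := by
  rcases h with ⟨rfl, h⟩ | ⟨rfl, h | h | h | h⟩ | ⟨rfl, h⟩ | ⟨rfl, h⟩
  · exact Or.inl (SpCube.noT_j2_three h)
  · exact Or.inl (SpU35.noT_co2_five h)
  · exact Or.inl (SpU35.noT_co3_five h)
  · exact Or.inl (SpU35.noT_hs_five h)
  · exact Or.inl (SpU35.noT_mcl_five h)
  · exact Or.inl (H845.JFourEleven.noT_j4_eleven h)
  · exact Or.inr ⟨rfl, h⟩

end

end Cfsg.Agent.H792.SpAll
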