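import Cfsg.Agent.H792.Sp.JThreeExp
import Cfsg.Agent.NotCT.Orders

/-!
# `J₃`, `p = 3`: the centre of a Sylow subgroup has index at least 27 (helper792)
-/

set_option autoImplicit false
set_option maxRecDepth 100000
set_option linter.unusedSectionVars false

namespace Cfsg.Agent.H792.SpJ3

open Subgroup Cfsg Cfsg.Spor Cfsg.Agent.H749 Cfsg.Agent.H792.SpCube Cfsg.Agent.J3.Core Cfsg.Agent.J3.Tab
  Cfsg.Agent.J3.Mono Cfsg.Agent.J3.Elts Cfsg.Agent.H898.J3Three
open Cfsg.Agent.J3.Nineteen (exists_scalar center_eq card_center)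

section
variable {F : Type*} [Field F] {ω : F}

theorem smul_ne : ∀ v : F9, v ≠ 0 → (1 : ℕ) • v ≠ 0 ∧ (2 : ℕ) • v ≠ 0 := by decide

/-- the elements of `S` that commute with `E` and `D_1` lie in `Z` -/
theorem mem_Z_of_comm [Fintype F] (hF : Fintype.card F = 4) (H : Good ω) (G : Gens F ω) {k : ℕ} {a w : F9}
    (h1 : (pr (G.e ^ k * (G.a a * G.d w)) : J3 F ω) * pr G.e = pr G.e * pr (G.e ^ k * (G.a a * G.d w)))
    (h2 : (pr (G.e ^ k * (G.a a * G.d w)) : J3 F ω) * pr (G.d (1, 0)) =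
      pr (G.d (1, 0)) * pr (G.e ^ k * (G.a a * G.d w))) : (pr (G.e ^ k * (G.a a * G.d w)) : J3 F ω) ∈ Z H G := by
  have hw := w_zero hF H G h1
  subst hw
  rw [d_zero G, mul_one] at h2 ⊢
  by_cases hk : k % 3 = 0
  · rw [e_mod H G k, hk, pow_zero, one_mul]
    exact ⟨a, rfl⟩
  exfalso
  have h3 := pr_dek hF H G (1, 0) (k % 3)
  have h4 := pr_comm hF H G a 0 0 (1, 0)
  rw [pow_zero, one_mul, a_zero H G, one_mul] at h4
  rw [e_mod H G k, map_mul, map_pow] at h2
  -- `E^k A_a D = E^k A_{k} D A_a`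
  have h5 : pr (G.d (1, 0)) * (pr G.e ^ (k % 3) * pr (G.a a)) =
      ((pr G.e ^ (k % 3) * pr (G.a ((k % 3) • (1, 0)))) * pr (G.a a)) * (pr (G.d (1, 0)) : J3 F ω) := by
    rw [← mul_assoc, h3, mul_assoc _ (pr (G.d (1, 0))), ← h4, mul_assoc, mul_assoc, mul_assoc]
  rw [h5] at h2
  have h6 := mul_right_cancel h2
  rw [mul_assoc] at h6
  have h7 := mul_left_cancel h6
  have h8 : (pr (G.a ((k % 3) • (1, 0))) : J3 F ω) = 1 := by
    have : (1 : J3 F ω) * pr (G.a a) = pr (G.a ((k % 3) • (1, 0))) * pr (G.a a) := by rw [one_mul]; exact h7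
    exact (mul_right_cancel this).symm
  refine a_ne' hF H G ?_ h8
  have h9 : k % 3 = 1 ∨ k % 3 = 2 := by omega
  rcases h9 with h | h
  · rw [h]; exact (smul_ne (1, 0) (by decide)).1
  · rw [h]; exact (smul_ne (1, 0) (by decide)).2

theorem cen_le_model [Fintype F] (hF : Fintype.card F = 4) (H : Good ω) (G : Gens F ω) [Fact (Nat.Prime 3)]
    (S : Sylow 3 (J3 F ω)) (hS : ∀ x : J3 F ω, x ∈ (S : Subgroup (J3 F ω)) ↔
      ∃ (k : ℕ) (a w : F9), x = pr (G.e ^ k * (G.a a * G.d w))) :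
    (S : Subgroup (J3 F ω)) ⊓ centralizer ((S : Subgroup (J3 F ω)) : Set (J3 F ω)) ≤ Z H G := by
  intro z hz
  obtain ⟨k, a, w, rfl⟩ := (hS z).1 hz.1
  have hE : (pr G.e : J3 F ω) ∈ (S : Subgroup (J3 F ω)) :=
    (hS _).2 ⟨1, 0, 0, by rw [pow_one, a_zero H G, d_zero G, mul_one, mul_one]⟩
  have hD : (pr (G.d (1, 0)) : J3 F ω) ∈ (S : Subgroup (J3 F ω)) :=
    (hS _).2 ⟨0, 0, (1, 0), by rw [pow_zero, one_mul, a_zero H G, one_mul]⟩
  exact mem_Z_of_comm hF H G (mem_centralizer_iff.1 hz.2 _ hE).symm (mem_centralizer_iff.1 hz.2 _ hD).symm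

theorem card_Z_le (H : Good ω) (G : Gens F ω) : Nat.card (Z H G) ≤ 9 := by
  have h1 : Function.Surjective (fun a : F9 => (⟨pr (G.a a), a, rfl⟩ : Z H G)) := by
    rintro ⟨_, a, rfl⟩
    exact ⟨a, rfl⟩
  have h2 := Nat.card_le_card_of_surjective _ h1
  have h3 : Nat.card F9 = 9 := by rw [Nat.card_eq_fintype_card]; rfl
  rwa [h3] at h2

end

/-- the centre of a Sylow `3`-subgroup of `J₃` has order at most nine -/
theorem card_cen_j3 [Fact (Nat.Prime 3)] {K : Type*} [Group K] (h : IsoJ3 K) (P : Sylow 3 K) :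
    Nat.card ((P : Subgroup K) ⊓ centralizer ((P : Subgroup K) : Set K) : Subgroup K) ≤ 9 := by
  obtain ⟨F, _, _, ω, hF, hω, ⟨e⟩⟩ := h
  have H := good_of_card hF hω
  obtain ⟨G⟩ := exists_gens hF H
  obtain ⟨S0, hS0⟩ := exists_S hF H G
  have hfin := finite_three hF H
  have hfK : Finite K := Finite.of_equiv _ e.symm.toEquiv
  let S1 : Sylow 3 (J3 F ω) := P.mapSurjective (f := e.toMonoidHom) e.surjective
  obtain ⟨g, hg⟩ := MulAction.exists_smul_eq (J3 F ω) S1 S0
  have h1 : (S0 : Subgroup (J3 F ω)) = ((P : Subgroup K).map e.toMonoidHom).map (MulAut.conj g).toMonoidHom := by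
    rw [← hg]; rfl
  have h2 : ∀ z ∈ (P : Subgroup K) ⊓ centralizer ((P : Subgroup K) : Set K), MulAut.conj g (e z) ∈ Z H G := by
    intro z hz
    apply cen_le_model hF H G S0 hS0
    refine ⟨?_, ?_⟩
    · show MulAut.conj g (e z) ∈ (S0 : Subgroup (J3 F ω))
      rw [h1]
      exact ⟨_, ⟨z, hz.1, rfl⟩, rfl⟩
    · show MulAut.conj g (e z) ∈ centralizer ((S0 : Subgroup (J3 F ω)) : Set (J3 F ω))
      rw [mem_centralizer_iff]
      intro y hy
      rw [SetLike.mem_coe, h1] at hy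
      obtain ⟨_, ⟨x, hx, rfl⟩, rfl⟩ := hy
      show MulAut.conj g (e x) * MulAut.conj g (e z) = MulAut.conj g (e z) * MulAut.conj g (e x)
      rw [← map_mul, ← map_mul, ← map_mul, ← map_mul, mem_centralizer_iff.1 hz.2 x hx]
  have h3 : Nat.card ((P : Subgroup K) ⊓ centralizer ((P : Subgroup K) : Set K) : Subgroup K) ≤ Nat.card (Z H G) := by
    refine Nat.card_le_card_of_injective (fun z => ⟨MulAut.conj g (e z), h2 z z.2⟩) ?_
    intro z z' hzz
    have h4 := congrArg Subtype.val hzz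
    exact Subtype.ext (e.injective ((MulAut.conj g).injective h4))
  exact h3.trans (card_Z_le H G)

/-- the centre of a Sylow `3`-subgroup of `J₃` has index at least 27 -/
theorem index_center_j3 [Fact (Nat.Prime 3)] {K : Type*} [Group K] (h : IsoJ3 K) (P : Sylow 3 K) :
    27 ≤ (Subgroup.center (P : Subgroup K)).index := by
  have hc : Nat.card K = 50232960 := Cfsg.Agent.NotCT.Orders.j3 h
  have hfK : Finite K := Nat.finite_of_card_ne_zero (by rw [hc]; norm_num)
  have h1 : Nat.card (Subgroup.center (P : Subgroup K)) ≤ 9 := by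
    refine le_trans ?_ (card_cen_j3 h P)
    refine Nat.card_le_card_of_injective (fun z => ⟨(z : (P : Subgroup K)), z.1.2, ?_⟩) ?_
    · show ((z : (P : Subgroup K)) : K) ∈ centralizer ((P : Subgroup K) : Set K)
      rw [mem_centralizer_iff]
      intro y hy
      exact congrArg Subtype.val (mem_center_iff.1 z.2 ⟨y, hy⟩)
    · intro z z' hzz
      have h9 := Subtype.ext_iff.1 hzz
      exact Subtype.ext (Subtype.ext h9)
  have h2 : 3 ^ 5 ∣ Nat.card (P : Subgroup K) := P.pow_dvd_card_of_pow_dvd_card (by rw [hc]; norm_num)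
  have h3 := (Subgroup.center (P : Subgroup K)).card_mul_index
  have h4 : 243 ≤ Nat.card (P : Subgroup K) := Nat.le_of_dvd Nat.card_pos (by norm_num at h2; exact h2)
  by_contra hlt
  push Not at hlt
  have h5 : Nat.card (Subgroup.center (P : Subgroup K)) * (Subgroup.center (P : Subgroup K)).index ≤ 9 * 26 :=
    Nat.mul_le_mul h1 (by omega)
  omega

end Cfsg.Agent.H792.SpJ3
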