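import Cfsg.Agent.H792.Sp.AllTwo
import Cfsg.Agent.H569.HNFiveQ
import Cfsg.Agent.H411.MThreeFin

/-!
# Strongly closed subgroups in the sporadic groups and the Tits group, `p` odd: the final statements (helper792)

* `spor_rows_odd` : `G` sporadic, `p` odd: `Out p G`;
* `spor_full_or_nfus_odd` : `FullP p G ∨ NFus p G`.
-/

set_option autoImplicit false

namespace Cfsg.Agent.H792.SpAll

open Cfsg Cfsg.Agent.H749

universe u

theorem fullP_hn : FullP 5 Spor.HN := by
  have : Finite Spor.HN := Nat.finite_of_card_ne_zero (by rw [NotCT.Orders.hn ⟨MulEquiv.refl _⟩]; norm_num)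
  exact H569.HNFive.fullP_hn_five ⟨MulEquiv.refl _⟩

theorem fullP_m : FullP 3 Spor.Monster := by
  have : Finite Spor.Monster := Nat.finite_of_card_ne_zero (by rw [NotCT.Orders.m ⟨MulEquiv.refl _⟩]; norm_num)
  exact H411.MThreeFin.fullP_m_three ⟨MulEquiv.refl _⟩

/-- all rows are proved -/
theorem pend (G : Type u) [Group G] [Finite G] : Pend G := pend_of fullP_hn fullP_m G

section
variable {p : ℕ} [hp : Fact p.Prime] {G : Type u} [Group G] [Finite G]

/-- **the sporadic rows, `p` odd** -/
theorem spor_rows_odd (hG : IsSporadicGroup G) (hp2 : p ≠ 2) : Out p G := spor_rows hG hp2 (pend G)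

/-- **the sporadic groups, `p` odd** -/
theorem spor_full_or_nfus_odd (hG : IsSporadicGroup G) (hp2 : p ≠ 2) : FullP p G ∨ H794.NFus p G :=
  spor_full_or_nfus hG hp2 (pend G)

end

end Cfsg.Agent.H792.SpAll
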