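import Cfsg.Agent.H792.Sp.JThree
import Cfsg.Agent.Lib.FrattiniBasic

/-!
# `J₃`, `p = 3`: the `N_G(S)`-invariant subgroups of `S` not contained in the Frattini subgroup (helper792)

`j3_top` : such a subgroup is `S`.
-/

set_option autoImplicit false
set_option maxRecDepth 100000
set_option linter.unusedSectionVars false

namespace Cfsg.Agent.H792.SpJ3

open Subgroup Cfsg Cfsg.Spor Cfsg.Agent.H749 Cfsg.Agent.H792.SpCube Cfsg.Agent.J3.Core Cfsg.Agent.J3.Tab
  Cfsg.Agent.J3.Mono Cfsg.Agent.J3.Elts Cfsg.Agent.H898.J3Three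
open Cfsg.Agent.J3.Nineteen (exists_scalar center_eq card_center)

/-- every `N_G(S)`-invariant subgroup `T` of `S` with `T ≰ Φ(S)` is `S` -/
def Top (p : ℕ) {K : Type*} [Group K] (S : Sylow p K) : Prop :=
  ∀ T : Subgroup K, T ≤ (S : Subgroup K) → (∀ n ∈ normalizer ((S : Subgroup K) : Set K), ∀ t ∈ T, n * t * n⁻¹ ∈ T) →
    ¬ T ≤ (frattini (S : Subgroup K)).map (S : Subgroup K).subtype → T = (S : Subgroup K)

theorem chk_dd : beqL (compT (tD (1, 0)) (cols (tD (0, 2)))) (compT tE (compT (tA (2, 1))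
    (compT (tD (0, 2)) (cols (tD (1, 0)))))) = true := by decide +kernel

theorem chk_div : ∀ w v : F9, w ≠ 0 → v ≠ 0 → ∃ u : F9, u ≠ 0 ∧ F9.div w u = v := by decide

section
variable {F : Type*} [Field F] {ω : F}

theorem pr_dd (H : Good ω) (G : Gens F ω) :
    G.d (1, 0) * G.d (0, 2) = G.e * (G.a (2, 1) * (G.d (0, 2) * G.d (1, 0))) := by
  have re : RepG ω tE G.e := by unfold RepG; rw [G.he]; exact repE H
  have ra : ∀ a, RepG ω (tA a) (G.a a) := fun a => by unfold RepG; rw [G.ha]; exact repA H a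
  have rd : ∀ a, RepG ω (tD a) (G.d a) := fun a => by unfold RepG; rw [G.hd]; exact repD H a
  exact ((rd _).mul (rd _)).ext (re.mul ((ra _).mul ((rd _).mul (rd _))))
    (by rw [cols_compT, cols_compT, cols_compT, cols_compT]; exact beqL_eq chk_dd)

theorem top_model [Fintype F] (hF : Fintype.card F = 4) (H : Good ω) (G : Gens F ω) [Fact (Nat.Prime 3)]
    (S : Sylow 3 (J3 F ω)) (hS : ∀ x : J3 F ω, x ∈ (S : Subgroup (J3 F ω)) ↔
      ∃ (k : ℕ) (a w : F9), x = pr (G.e ^ k * (G.a a * G.d w))) : Top 3 S := by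
  have hfin := finite_three hF H
  intro T hTS hT hTΦ
  set Φ := (frattini (S : Subgroup (J3 F ω))).map (S : Subgroup (J3 F ω)).subtype with hΦ
  have hA : ∀ a, (pr (G.a a) : J3 F ω) ∈ (S : Subgroup (J3 F ω)) := fun a =>
    (hS _).2 ⟨0, a, 0, by rw [pow_zero, one_mul, d_zero G, mul_one]⟩
  have hE : (pr G.e : J3 F ω) ∈ (S : Subgroup (J3 F ω)) :=
    (hS _).2 ⟨1, 0, 0, by rw [pow_one, a_zero H G, d_zero G, mul_one, mul_one]⟩
  have hD : ∀ w, (pr (G.d w) : J3 F ω) ∈ (S : Subgroup (J3 F ω)) := fun w =>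
    (hS _).2 ⟨0, 0, w, by rw [pow_zero, one_mul, a_zero H G, one_mul]⟩
  have hcomm : ∀ x ∈ (S : Subgroup (J3 F ω)), ∀ y ∈ (S : Subgroup (J3 F ω)), x * y * x⁻¹ * y⁻¹ ∈ Φ := by
    intro x hx y hy
    refine ⟨⟨x, hx⟩ * ⟨y, hy⟩ * (⟨x, hx⟩)⁻¹ * (⟨y, hy⟩)⁻¹, ?_, rfl⟩
    refine Cfsg.Agent.Lib.FrattiniBasic.commutator_le_frattini S.2 ?_
    exact commutator_mem_commutator (mem_top _) (mem_top _)
  have hAΦ : ∀ a, (pr (G.a a) : J3 F ω) ∈ Φ := by
    intro w
    have h1 := hcomm _ (hD w) _ hE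
    have h2 := pr_dek hF H G w 1
    rw [pow_one, one_smul] at h2
    rw [h2, mul_inv_cancel_right] at h1
    have h3 : (pr G.e * pr (G.a w) : J3 F ω) = pr (G.a w) * pr G.e := by rw [← map_mul, ← ae G H, map_mul]
    rwa [h3, mul_inv_cancel_right] at h1
  have hEΦ : (pr G.e : J3 F ω) ∈ Φ := by
    have h1 := hcomm _ (hD (1, 0)) _ (hD (0, 2))
    have h2 : (pr (G.d (1, 0)) * pr (G.d (0, 2)) : J3 F ω) =
        pr G.e * (pr (G.a (2, 1)) * (pr (G.d (0, 2)) * pr (G.d (1, 0)))) := by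
      rw [← map_mul, pr_dd H G, map_mul, map_mul, map_mul]
    have h3 : (pr (G.d (1, 0)) * pr (G.d (0, 2)) * (pr (G.d (1, 0)))⁻¹ * (pr (G.d (0, 2)))⁻¹ : J3 F ω) =
        pr G.e * pr (G.a (2, 1)) := by
      rw [h2]; group
    rw [h3] at h1
    have h4 := mul_mem h1 (inv_mem (hAΦ (2, 1)))
    rwa [mul_inv_cancel_right] at h4
  -- elements of `T` outside `Φ`
  obtain ⟨t, ht, htΦ⟩ := Set.not_subset.1 hTΦ
  obtain ⟨k, a, w, rfl⟩ := (hS t).1 (hTS ht)
  have hw : w ≠ 0 := by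
    rintro rfl
    apply htΦ
    show pr (G.e ^ k * (G.a a * G.d 0)) ∈ Φ
    rw [d_zero G, mul_one, map_mul, map_pow]
    exact mul_mem (pow_mem hEΦ k) (hAΦ a)
  -- conjugation by `B_u`
  have hB : ∀ u : F9, u ≠ 0 → ∀ (k : ℕ) (a w : F9), ∃ (k' : ℕ) (a' : F9),
      ((pr (G.b u))⁻¹ * pr (G.e ^ k * (G.a a * G.d w)) * pr (G.b u) : J3 F ω) =
        pr (G.e ^ k' * (G.a a' * G.d (F9.div w u))) := by
    intro u hu k a w
    obtain ⟨m, hm⟩ := relEB H u hu
    have e1 : G.e * G.b u = G.b u * G.e ^ m := by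
      apply mat_injective
      rw [map_mul, map_mul, map_pow, G.he, G.hb u hu]
      exact hm
    have e2 : G.a a * G.b u = G.b u * G.a (F9.mul (conj9 u) a) := by
      apply mat_injective
      rw [map_mul, map_mul, G.ha, G.ha, G.hb u hu]
      exact relAB H a u hu
    have e3 : G.d w * G.b u = G.b u * G.d (F9.div w u) := by
      apply mat_injective
      rw [map_mul, map_mul, G.hd, G.hd, G.hb u hu]
      exact relDB H w u hu
    have e4 : ∀ n : ℕ, G.e ^ n * G.b u = G.b u * G.e ^ (m * n) := by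
      intro n
      induction n with
      | zero => rw [pow_zero, mul_zero, pow_zero, one_mul, mul_one]
      | succ n ih =>
        rw [pow_succ, mul_assoc, e1, ← mul_assoc, ih, mul_assoc, ← pow_add, Nat.mul_succ]
    refine ⟨m * k, F9.mul (conj9 u) a, ?_⟩
    have h1 : G.e ^ k * (G.a a * G.d w) * G.b u = G.b u * (G.e ^ (m * k) * (G.a (F9.mul (conj9 u) a) * G.d (F9.div w u))) := by
      calc G.e ^ k * (G.a a * G.d w) * G.b u = G.e ^ k * (G.a a * (G.d w * G.b u)) := by simp only [mul_assoc]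
        _ = G.e ^ k * ((G.a a * G.b u) * G.d (F9.div w u)) := by rw [e3]; simp only [mul_assoc]
        _ = (G.e ^ k * G.b u) * (G.a (F9.mul (conj9 u) a) * G.d (F9.div w u)) := by rw [e2]; simp only [mul_assoc]
        _ = _ := by rw [e4]; simp only [mul_assoc]
    rw [mul_assoc, ← map_mul, h1, map_mul, inv_mul_cancel_left]
  have hBn : ∀ u : F9, u ≠ 0 → (pr (G.b u))⁻¹ ∈ normalizer ((S : Subgroup (J3 F ω)) : Set (J3 F ω)) := by
    intro u hu
    have h1 : (S : Subgroup (J3 F ω)).map (MulAut.conj (pr (G.b u))⁻¹).toMonoidHom = (S : Subgroup (J3 F ω)) := by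
      refine Subgroup.eq_of_le_of_card_ge ?_ (by rw [card_map_conj])
      rintro _ ⟨x, hx, rfl⟩
      obtain ⟨k, a, w, rfl⟩ := (hS x).1 hx
      obtain ⟨k', a', h⟩ := hB u hu k a w
      show (pr (G.b u))⁻¹ * pr (G.e ^ k * (G.a a * G.d w)) * (pr (G.b u))⁻¹⁻¹ ∈ (S : Subgroup (J3 F ω))
      rw [inv_inv, h]
      exact (hS _).2 ⟨_, _, _, rfl⟩
    rw [mem_normalizer_iff]
    intro x
    constructor
    · intro hx
      rw [← h1]
      exact ⟨x, hx, rfl⟩
    · intro hx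
      rw [← h1] at hx
      obtain ⟨y, hy, e⟩ := hx
      have : y = x := mul_left_cancel (mul_right_cancel (show (pr (G.b u))⁻¹ * y * (pr (G.b u))⁻¹⁻¹ =
        (pr (G.b u))⁻¹ * x * (pr (G.b u))⁻¹⁻¹ from e))
      rwa [← this]
  -- `T Φ = S`
  have hTΦ' : ∀ v : F9, (pr (G.d v) : J3 F ω) ∈ T ⊔ Φ := by
    intro v
    by_cases hv : v = 0
    · rw [hv, d_zero G, map_one]; exact one_mem _
    obtain ⟨u, hu, huv⟩ := chk_div w v hw hv
    obtain ⟨k', a', h⟩ := hB u hu k a w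
    have h1 := hT _ (hBn u hu) _ ht
    rw [inv_inv, h, huv, map_mul, map_mul, map_pow] at h1
    have h2 : (pr (G.d v) : J3 F ω) = (pr (G.a a'))⁻¹ * (pr G.e ^ k')⁻¹ * (pr G.e ^ k' * (pr (G.a a') * pr (G.d v))) := by
      group
    rw [h2]
    refine mul_mem (mul_mem ?_ ?_) ((le_sup_left : T ≤ T ⊔ Φ) h1)
    · exact inv_mem ((le_sup_right : Φ ≤ T ⊔ Φ) (hAΦ a'))
    · exact inv_mem (pow_mem ((le_sup_right : Φ ≤ T ⊔ Φ) hEΦ) k')
  have hle : (S : Subgroup (J3 F ω)) ≤ T ⊔ Φ := by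
    intro x hx
    obtain ⟨k, a, w, rfl⟩ := (hS x).1 hx
    rw [map_mul, map_mul, map_pow]
    exact mul_mem (pow_mem ((le_sup_right : Φ ≤ T ⊔ Φ) hEΦ) k)
      (mul_mem ((le_sup_right : Φ ≤ T ⊔ Φ) (hAΦ a)) (hTΦ' w))
  -- nongenerators
  have h1 : (T.subgroupOf (S : Subgroup (J3 F ω))) ⊔ frattini (S : Subgroup (J3 F ω)) = ⊤ := by
    apply Subgroup.map_injective (S : Subgroup (J3 F ω)).subtype_injective
    rw [Subgroup.map_sup, ← hΦ, subgroupOf_map_subtype, inf_eq_left.2 hTS, ← MonoidHom.range_eq_map, range_subtype]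
    exact le_antisymm (sup_le hTS (map_subtype_le _)) hle
  have h2 := frattini_nongenerating h1
  exact le_antisymm hTS (subgroupOf_eq_top.1 h2)

end

/-- `Top` is transported by isomorphisms -/
theorem top_of_equiv {p : ℕ} {K L : Type*} [Group K] [Group L] (e : K ≃* L) (S : Sylow p K) (S0 : Sylow p L)
    (he : ∀ x : K, e x ∈ (S0 : Subgroup L) ↔ x ∈ (S : Subgroup K)) (h : Top p S0) : Top p S := by
  intro T hTS hT hTΦ
  have hmem : ∀ x : K, e x ∈ T.map e.toMonoidHom ↔ x ∈ T := fun x =>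
    ⟨fun ⟨y, hy, hxy⟩ => by rwa [← e.injective hxy], fun hx => ⟨x, hx, rfl⟩⟩
  have h1 := h (T.map e.toMonoidHom) ?_ ?_ ?_
  · refine le_antisymm hTS fun x hx => ?_
    rw [← hmem, h1, he]
    exact hx
  · rintro _ ⟨x, hx, rfl⟩
    exact (he x).2 (hTS hx)
  · rintro n hn _ ⟨x, hx, rfl⟩
    obtain ⟨m, rfl⟩ := e.surjective n
    refine ⟨m * x * m⁻¹, hT m ?_ x hx, ?_⟩
    · rw [mem_normalizer_iff] at hn ⊢
      intro y
      have := hn (e y)
      rw [he, ← map_mul, ← map_inv, ← map_mul, he] at this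
      exact this
    · show e (m * x * m⁻¹) = e m * e x * (e m)⁻¹
      rw [map_mul, map_mul, map_inv]
  · intro hle
    apply hTΦ
    intro t ht
    obtain ⟨y, hy, hyt⟩ := hle ((hmem t).2 ht)
    -- the isomorphism `S0 → S`
    let φ : (S0 : Subgroup L) →* (S : Subgroup K) :=
      (e.symm.toMonoidHom.comp (S0 : Subgroup L).subtype).codRestrict (S : Subgroup K) fun x => by
        rw [← he]
        show e (e.symm (x : L)) ∈ (S0 : Subgroup L)
        rw [e.apply_symm_apply]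
        exact x.2
    have hφ : Function.Surjective φ := by
      intro x
      refine ⟨⟨e x, (he x).2 x.2⟩, Subtype.ext ?_⟩
      show e.symm (e (x : K)) = x
      rw [e.symm_apply_apply]
    have h2 := frattini_le_comap_frattini_of_surjective hφ hy
    refine ⟨φ y, h2, ?_⟩
    show e.symm (y : L) = t
    have h3 : (y : L) = e t := hyt
    rw [h3, e.symm_apply_apply]

theorem j3_top [Fact (Nat.Prime 3)] {K : Type*} [Group K] (h : IsoJ3 K) (S : Sylow 3 K) : Top 3 S := by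
  obtain ⟨F, _, _, ω, hF, hω, ⟨e⟩⟩ := h
  have H := good_of_card hF hω
  obtain ⟨G⟩ := exists_gens hF H
  obtain ⟨S0, hS0⟩ := exists_S hF H G
  have hfin := finite_three hF H
  have hfK : Finite K := Finite.of_equiv _ e.symm.toEquiv
  let S1 : Sylow 3 (J3 F ω) := S.mapSurjective (f := e.toMonoidHom) e.surjective
  obtain ⟨g, hg⟩ := MulAction.exists_smul_eq (J3 F ω) S1 S0
  refine top_of_equiv (e.trans (MulAut.conj g)) S S0 (fun x => ?_) (top_model hF H G S0 hS0)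
  have h1 : (S0 : Subgroup (J3 F ω)) = ((S : Subgroup K).map e.toMonoidHom).map (MulAut.conj g).toMonoidHom := by
    rw [← hg]; rfl
  rw [h1]
  show MulAut.conj g (e x) ∈ _ ↔ _
  constructor
  · rintro ⟨_, ⟨y, hy, rfl⟩, hxy⟩
    have h2 : (e y : J3 F ω) = e x := (MulAut.conj g).injective hxy
    rwa [← e.injective h2]
  · intro hx
    exact ⟨e x, ⟨x, hx, rfl⟩, rfl⟩

end Cfsg.Agent.H792.SpJ3
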