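import Cfsg.Agent.H792.Sp.All
import Cfsg.Agent.H792.Sp.BFive
import Cfsg.Agent.H546.MFiveFull
import Cfsg.Agent.H794.MonSeven

/-!
# The sporadic rows from the two rows `(HN, 5)` and `(M, 3)` (helper792)
-/

set_option autoImplicit false

namespace Cfsg.Agent.H792.SpAll

open Cfsg Cfsg.Agent.H749

universe u

/-- the pending rows follow from `(HN, 5)` and `(M, 3)` -/
theorem pend_of (h5 : FullP 5 Spor.HN) (h3 : FullP 3 Spor.Monster) (G : Type u) [Group G] [Finite G] : Pend G where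
  hn5 := by rintro ⟨e⟩; exact h5.of_mulEquiv e.symm
  b5 := fun h => SpBFive.fullP_b_five_of h5 h
  m3 := by rintro ⟨e⟩; exact h3.of_mulEquiv e.symm
  m5 := fun h => H546.MFiveFull.fullP_m_five h (SpBFive.fullP_b_five_of h5 ⟨MulEquiv.refl _⟩)
  m7 := fun h => H794.MonSeven.fullP_m_seven h

end Cfsg.Agent.H792.SpAll
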