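import Cfsg.Agent.H792.SpLie
import Cfsg.Agent.S0243
import Cfsg.Agent.S0249
import Cfsg.Agent.S0280
import Cfsg.Agent.S0292
import Cfsg.Agent.S0295
import Cfsg.Agent.S1055
import Cfsg.Agent.S1059

/-!
# Rows `FullP p G` for some groups of Lie type in characteristic `p` (helper792)

`PΩ₇(3)`, `PSL₃(3)`, `PSL₃(7)`, `G₂(5)`, `G₂(3)`, `PSU₄(3)`.
-/

set_option autoImplicit false
set_option maxRecDepth 100000

namespace Cfsg.Agent.H792.SpLie

open Subgroup Cfsg Cfsg.Agent.H749 Cfsg.Agent.H794 Cfsg.Agent.H998.StrP Cfsg.Agent.EvenType.StrongP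

theorem card_pomega_seven_three : Nat.card (POmega (ZMod 3) (quadFormOdd 3 (ZMod 3))) = 4585351680 := by
  have h := Cfsg.Agent.S0292.result (F := ZMod 3) (q := 3) (ZMod.card 3) (by decide) 3 le_rfl
  have h2 : (3 : ℕ) ^ (3 ^ 2) * ∏ i ∈ Finset.range 3, (3 ^ (2 * (i + 1)) - 1) = 2 * 4585351680 := by
    rw [Finset.prod_range_succ, Finset.prod_range_succ, Finset.prod_range_succ, Finset.prod_range_zero]
    norm_num
  rw [h2] at h
  exact Nat.eq_of_mul_eq_mul_left (by norm_num) h

theorem fullP_pomega_seven_three [Fact (Nat.Prime 3)] : FullP 3 (POmega (ZMod 3) (quadFormOdd 3 (ZMod 3))) := by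
  have hf : Finite (POmega (ZMod 3) (quadFormOdd 3 (ZMod 3))) :=
    Nat.finite_of_card_ne_zero (by rw [card_pomega_seven_three]; norm_num)
  refine fullP_of_lie_of_card (by norm_num) (Cfsg.Agent.S0295.result (by rw [ZMod.card]; decide) 3 le_rfl)
    (Or.inr (Or.inr (Or.inr (Or.inl ⟨ZMod 3, inferInstance, inferInstance, inferInstance, 3, le_rfl, by
      rw [ZMod.card]; decide, ⟨MulEquiv.refl _⟩⟩)))) (a := 9) [(2, 9), (5, 1), (7, 1), (13, 1)]
    (primes_of (by decide)) (by norm_num) ?_ (by decide +kernel)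
  rw [card_pomega_seven_three]
  norm_num [val]

theorem fullP_psl (p : ℕ) [hp : Fact p.Prime] (hp2 : p ≠ 2) (n : ℕ) (hn : 3 ≤ n) {a : ℕ} (l : List (ℕ × ℕ))
    (hl : ∀ q ∈ l, Nat.Prime q.1) (ha0 : a ≠ 0)
    (hcard : ∏ i : Fin n, (p ^ n - p ^ (i : ℕ)) = Nat.gcd n (p - 1) * ((p - 1) * (p ^ a * val l)))
    (hc : chk (p ^ a) l = true) : FullP p (Matrix.ProjectiveSpecialLinearGroup (Fin n) (ZMod p)) := by
  have h0 := hp.out.one_lt
  have h := Cfsg.Agent.S0243.result (F := ZMod p) (q := p) (ZMod.card p) n (by omega)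
  rw [hcard] at h
  have h1 := Nat.eq_of_mul_eq_mul_left (Nat.gcd_pos_of_pos_left _ (by omega)) h
  have h2 := Nat.eq_of_mul_eq_mul_left (by omega) h1
  have hs : IsSimpleGroup (Matrix.ProjectiveSpecialLinearGroup (Fin n) (ZMod p)) := S0249.result n hn
  exact fullP_of_lie_of_card hp2 hs (Or.inl ⟨ZMod p, inferInstance, inferInstance, inferInstance, n, by omega, by omega,
    ⟨MulEquiv.refl _⟩⟩) l hl ha0 h2 hc

theorem fullP_psl_three_seven [Fact (Nat.Prime 7)] :
    FullP 7 (Matrix.ProjectiveSpecialLinearGroup (Fin 3) (ZMod 7)) := by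
  refine fullP_psl 7 (by norm_num) 3 le_rfl (a := 3) [(2, 5), (3, 2), (19, 1)] (primes_of (by decide)) (by norm_num) ?_
    (by decide +kernel)
  rw [Fin.prod_univ_three]
  norm_num [val]

theorem fullP_psl_three_three [Fact (Nat.Prime 3)] :
    FullP 3 (Matrix.ProjectiveSpecialLinearGroup (Fin 3) (ZMod 3)) := by
  refine fullP_psl 3 (by norm_num) 3 le_rfl (a := 3) [(2, 4), (13, 1)] (primes_of (by decide)) (by norm_num) ?_
    (by decide +kernel)
  rw [Fin.prod_univ_three]
  norm_num [val]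

theorem fullP_gtwo_five [hp : Fact (Nat.Prime 5)] (K : Type) [Field K] [Fintype K] (hK : Fintype.card K = 5) :
    FullP 5 (Lie.chevG2.group K) := by
  have hch : CharP K 5 := by
    have := hp
    exact charP_of_card_eq_prime hK
  have hcard : Nat.card (Lie.chevG2.group K) = 5859000000 := by
    rw [Cfsg.Agent.S1059.result hK]
    norm_num
  have hf : Finite (Lie.chevG2.group K) := Nat.finite_of_card_ne_zero (by rw [hcard]; norm_num)
  have h01 : ∃ a : K, a ≠ 0 ∧ a ≠ 1 := by
    by_contra hcon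
    push Not at hcon
    classical
    have h1 : Fintype.card K ≤ 2 := by
      rw [← Finset.card_univ]
      refine (Finset.card_le_card (t := {0, 1}) fun a _ => ?_).trans Finset.card_le_two
      by_cases h : a = 0
      · simp [h]
      · simp [hcon a h]
    omega
  refine fullP_of_lie_of_card (by norm_num) (Cfsg.Agent.S1055.result h01).1
    (Or.inr (Or.inr (Or.inr (Or.inr (Or.inr (Or.inr (Or.inl ⟨K, inferInstance, inferInstance, hch,
      Or.inl ⟨by omega, ⟨MulEquiv.refl _⟩⟩⟩))))))) (a := 6) [(2, 6), (3, 3), (7, 1), (31, 1)]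
    (primes_of (by decide)) (by norm_num) ?_ (by decide +kernel)
  rw [hcard]
  norm_num [val]

end Cfsg.Agent.H792.SpLie
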