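import Cfsg.Agent.H792.SpHeis
import Cfsg.Agent.SporStruct.U35K50
import Cfsg.Agent.SporStruct.U35Iso
import Cfsg.Agent.S0280

/-!
# `PSU₃(5)`: no strongly closed subgroup of order `25` (helper792)
-/

set_option autoImplicit false
set_option maxRecDepth 100000

namespace Cfsg.Agent.H792.SpU35

open Subgroup Cfsg Cfsg.Agent.H749 Cfsg.Agent.H792.SpCube Cfsg.Agent.SporStruct.U35K50

/-- the element of order eight -/
def c : K50 := ⟨s1 * s3 * s3 * s0 * s1, mul_mem (mul_mem (mul_mem (mul_mem s1_mem s3_mem) s3_mem) s0_mem) s1_mem⟩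
/-- the element `x` of order five -/
def x : K50 := ⟨s5 * s3 * s2, mul_mem (mul_mem s5_mem s3_mem) s2_mem⟩
/-- the element `y` of order five -/
def y : K50 := c * x * c⁻¹
/-- the commutator -/
def z : K50 := (x * y)⁻¹ * (y * x)

theorem ext50 {a b : K50} (h : ∀ j : Fin 50, (a : Equiv.Perm (Fin 50)) j = (b : Equiv.Perm (Fin 50)) j) : a = b :=
  Subtype.ext (Equiv.ext h)

theorem ne50 {a b : K50} (h : ¬ ∀ j : Fin 50, (a : Equiv.Perm (Fin 50)) j = (b : Equiv.Perm (Fin 50)) j) : a ≠ b :=
  fun e => h fun j => by rw [e]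

theorem x5 : x * x * x * x * x = 1 := ext50 (by decide +kernel)
theorem z5 : z * z * z * z * z = 1 := ext50 (by decide +kernel)
theorem xz : x * z = z * x := ext50 (by decide +kernel)
theorem yz : y * z = z * y := ext50 (by decide +kernel)
theorem z1 : z ≠ 1 := ne50 (by decide +kernel)
theorem cy : c * y * c⁻¹ = x * x * x := ext50 (by decide +kernel)

theorem heis : Heis 5 x y z where
  x_pow := by rw [← x5]; simp only [pow_succ, pow_zero, one_mul]
  y_pow := by
    rw [y, conj_pow, show x ^ 5 = 1 by rw [← x5]; simp only [pow_succ, pow_zero, one_mul], mul_one, mul_inv_cancel]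
  z_pow := by rw [← z5]; simp only [pow_succ, pow_zero, one_mul]
  xz := xz
  yz := yz
  yx := by rw [z, mul_inv_cancel_left]
  z_ne := z1

theorem n0 : x * x * x * y ≠ y * (x * x * x) := ne50 (by decide +kernel)
theorem n1 : y * (x * x * x) * (x * y) ≠ x * y * (y * (x * x * x)) := ne50 (by decide +kernel)
theorem n2 : y * y * (x * x * x) * (x * x * y) ≠ x * x * y * (y * y * (x * x * x)) := ne50 (by decide +kernel)
theorem n3 : y * y * y * (x * x * x) * (x * x * x * y) ≠ x * x * x * y * (y * y * y * (x * x * x)) :=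
  ne50 (by decide +kernel)
theorem n4 : y * y * y * y * (x * x * x) * (x * x * x * x * y) ≠ x * x * x * x * y * (y * y * y * y * (x * x * x)) :=
  ne50 (by decide +kernel)

theorem exists_field : ∃ (F : Type) (_ : Field F) (_ : Fintype F), Fintype.card F = 25 := by
  have h5 : Fact (Nat.Prime 5) := ⟨by norm_num⟩
  have := Fintype.ofFinite (GaloisField 5 2)
  refine ⟨GaloisField 5 2, inferInstance, this, ?_⟩
  rw [← Nat.card_eq_fintype_card, GaloisField.card 5 2 (by norm_num)]
  norm_num

theorem card_psu {F : Type} [Field F] [Fintype F] (hF : Fintype.card F = 25) : Nat.card (Cfsg.PSU 3 F 5) = 126000 := by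
  have h := Cfsg.Agent.S0280.result (F := F) (q := 5) hF 3 (by norm_num)
  norm_num [Finset.prod_range_succ, Nat.even_iff] at h
  omega

theorem card_K50 : Nat.card K50 = 126000 := by
  obtain ⟨F, _, _, hF⟩ := exists_field
  obtain ⟨e⟩ := Cfsg.Agent.SporStruct.U35Iso.psu35_iso F hF
  rw [← Nat.card_congr e.toEquiv, card_psu hF]

instance finite_K50 : Finite K50 := Nat.finite_of_card_ne_zero (by rw [card_K50]; norm_num)

theorem noT [hp : Fact (Nat.Prime 5)] : NoT 5 K50 := by
  refine noT_of_heis (c := c) (by rw [card_K50]; norm_num) heis ?_ ?_ ?_ ?_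
  · exact (le_sup_left : zpowers y ≤ zpowers y ⊔ (zpowers x ⊔ zpowers z)) (mem_zpowers y)
  · rw [cy]
    have hx : x ∈ zpowers y ⊔ (zpowers x ⊔ zpowers z) :=
      (le_sup_right : zpowers x ⊔ zpowers z ≤ zpowers y ⊔ (zpowers x ⊔ zpowers z))
        ((le_sup_left : zpowers x ≤ zpowers x ⊔ zpowers z) (mem_zpowers x))
    exact mul_mem (mul_mem hx hx) hx
  · exact heis.noncomm
  · intro i hi
    have e : c * (x ^ i * y) * c⁻¹ = y ^ i * (x * x * x) := by
      rw [← cy]
      have e1 : y ^ i = c * x ^ i * c⁻¹ := by rw [y, conj_pow]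
      rw [e1]; group
    rw [e]
    interval_cases i
    · simpa using n0
    · simpa [pow_succ] using n1
    · simpa [pow_succ] using n2
    · simpa [pow_succ] using n3
    · simpa [pow_succ] using n4

/-- **Groups containing `PSU₃(5)` with index prime to `5`.** -/
theorem full_or_nfus [hp : Fact (Nat.Prime 5)] {G : Type*} [Group G] [Finite G] {F : Type} [Field F] [Fintype F]
    (hF : Fintype.card F = 25) (f : Cfsg.PSU 3 F 5 →* G) (hf : Function.Injective f) (h4 : ¬ 5 ^ 4 ∣ Nat.card G) :
    FullP 5 G ∨ H794.NFus 5 G := by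
  obtain ⟨e⟩ := Cfsg.Agent.SporStruct.U35Iso.psu35_iso F hF
  have hinj : Function.Injective (f.comp e.symm.toMonoidHom) := by
    rw [MonoidHom.coe_comp]
    exact hf.comp e.symm.injective
  refine full_or_nfus_of_hom (f.comp e.symm.toMonoidHom) hinj ?_ (by rw [card_K50]; norm_num) heis noT
  intro h
  apply h4
  rw [← (f.comp e.symm.toMonoidHom).range.card_mul_index]
  have h1 : Nat.card (f.comp e.symm.toMonoidHom).range = 126000 := by
    rw [← card_K50]
    exact (Nat.card_congr (MonoidHom.ofInjective hinj).toEquiv).symm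
  rw [h1]
  obtain ⟨k, hk⟩ := h
  rw [hk]
  exact ⟨1008 * k, by ring⟩

end Cfsg.Agent.H792.SpU35
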